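import Groth.Prelude.Def_TFOne
import Groth.Agent.TFCurvLib.AssTF
import Groth.Agent.CycK.Sl
import Groth.Agent.CurveCohLib.Proper
import Groth.Agent.GrpFieldLib.DominantFlat
import Groth.Agent.QCoh.Support
import Groth.Agent.PureLib.Supported
import Groth.Prelude.Def_KLin

/-! Torsion-free quotients of rank-one torsion-free modules on reduced curves: detection of maps at generic points,
factorisation, supports, finiteness of error terms. -/

set_option autoImplicit false
set_option backward.isDefEq.respectTransparency false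
set_option backward.isDefEq.respectTransparency.types false
set_option linter.unusedSectionVars false
set_option linter.style.haveILetI false

universe u

open CategoryTheory CategoryTheory.Limits AlgebraicGeometry TopologicalSpace Opposite

noncomputable section

namespace Groth.Agent.TFQuot7

open Groth.Agent CycK

variable {X : Scheme.{u}}

/-- Sections of `G` are detected at the points with a field as local ring. -/
def Det (G : X.Modules) : Prop :=
  ∀ (U : X.Opens) (s : Γ(G, U)),
    (∀ (y : X) (hy : y ∈ U), IsField (X.presheaf.stalk y) → G.presheaf.germ U y hy s = 0) → s = 0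

theorem det_of_tf [IsLocallyNoetherian X] [AlgebraicGeometry.IsReduced X] {G : X.Modules} (hG : Coh.IsQCoh G)
    (htG : TorSh.IsTorsionFree G) : Det G := fun _ s h => TFCurvLib.eq_zero_of_germ_isField hG htG s h

theorem Det.hom_eq_zero {A G : X.Modules} (hG : Det G) (φ : A ⟶ G)
    (h : ∀ y : X, IsField (X.presheaf.stalk y) → ∀ v : A.presheaf.stalk y, sl φ y v = 0) : φ = 0 := by
  refine Scheme.Modules.hom_ext _ _ fun U => ?_
  ext s
  show φ.app U s = 0
  refine hG U _ fun y hy hf => ?_
  rw [← sl_germ]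
  exact h y hf _

theorem sl_sub {A G : X.Modules} (φ ψ : A ⟶ G) (y : X) (v : A.presheaf.stalk y) :
    sl (φ - ψ) y v = sl φ y v - sl ψ y v := by
  obtain ⟨U, hy, s, rfl⟩ := A.presheaf.exists_germ_eq (x := y) v
  rw [sl_germ, sl_germ, sl_germ, ← map_sub]
  rfl

theorem sl_add {A G : X.Modules} (φ ψ : A ⟶ G) (y : X) (v : A.presheaf.stalk y) :
    sl (φ + ψ) y v = sl φ y v + sl ψ y v := by
  obtain ⟨U, hy, s, rfl⟩ := A.presheaf.exists_germ_eq (x := y) v
  rw [sl_germ, sl_germ, sl_germ, ← map_add]
  rfl

theorem Det.hom_ext {A G : X.Modules} (hG : Det G) {φ ψ : A ⟶ G}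
    (h : ∀ y : X, IsField (X.presheaf.stalk y) → ∀ v : A.presheaf.stalk y, sl φ y v = sl ψ y v) : φ = ψ :=
  sub_eq_zero.1 (hG.hom_eq_zero _ fun y hy v => by rw [sl_sub, h y hy v, sub_self])

theorem Det.of_mono {A G : X.Modules} (hG : Det G) (ι : A ⟶ G) [Mono ι] : Det A := fun U s h =>
  QCoh.app_injective ι U ((hG U _ fun y hy hf => by rw [← sl_germ, h y hy hf, map_zero]).trans (map_zero _).symm)

theorem Det.isZero {G : X.Modules} (hG : Det G)
    (h : ∀ y : X, IsField (X.presheaf.stalk y) → Subsingleton (G.presheaf.stalk y)) : IsZero G :=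
  (IsZero.iff_id_eq_zero _).2 (hG.hom_eq_zero _ fun y hy _ => (h y hy).elim _ _)

theorem isTorsionFree_of_mono {A G : X.Modules} (hG : TorSh.IsTorsionFree G) (ι : A ⟶ G) [Mono ι] :
    TorSh.IsTorsionFree A := fun x =>
  haveI := hG x
  Function.Injective.moduleIsTorsionFree (sl ι x) (sl_injective ι x) (fun _ _ => map_smul _ _ _)

/-- A detected module supported at field points inside a closed set is supported in it. -/
theorem Det.support_subset {G : X.Modules} (hG : Det G) {T : Set X} (hT : IsClosed T)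
    (h : ∀ y : X, IsField (X.presheaf.stalk y) → y ∉ T → Subsingleton (G.presheaf.stalk y)) :
    CohB1.support G ⊆ T := by
  intro x hx
  by_contra hxT
  refine hx (subsingleton_of_forall_eq 0 fun v => ?_)
  obtain ⟨U, hxU, s, rfl⟩ := G.presheaf.exists_germ_eq (x := x) v
  let V : X.Opens := U ⊓ ⟨Tᶜ, hT.isOpen_compl⟩
  have hxV : x ∈ V := ⟨hxU, hxT⟩
  rw [← G.presheaf.germ_res_apply (homOfLE (inf_le_left : V ≤ U)) x hxV s,
    hG V (G.presheaf.map (homOfLE (inf_le_left : V ≤ U)).op s) fun y hy hf => (h y hf hy.2).elim _ _, map_zero]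

/-! ### Points with a field as local ring -/

theorem mem_genericPoints_of_maximal {y : X} (h : ∀ y' : X, y' ⤳ y → y' = y) : y ∈ genericPoints X := by
  obtain ⟨C, hC, hyC⟩ := exists_mem_irreducibleComponents_subset_of_isIrreducible _
    (isIrreducible_singleton (x := y)).closure
  obtain ⟨g, hg⟩ := QuasiSober.sober hC.1 (isClosed_of_mem_irreducibleComponents C hC)
  have hgy : g = y := h g (hg.specializes (hyC (subset_closure rfl)))
  subst hgy
  show closure ({g} : Set X) ∈ irreducibleComponents (X : Type u)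
  rw [show closure ({g} : Set X) = C from hg]
  exact hC

theorem mem_genericPoints_iff [AlgebraicGeometry.IsReduced X] {y : X} :
    y ∈ genericPoints X ↔ IsField (X.presheaf.stalk y) :=
  ⟨GrpFieldLib.isField_stalk_of_maximal y, fun hy =>
    mem_genericPoints_of_maximal fun _ h => TFCurvLib.eq_of_specializes_of_isField hy h⟩

theorem isClosed_of_not_isField [CompactSpace X] [AlgebraicGeometry.IsReduced X]
    (hpure : ∀ C ∈ irreducibleComponents (X : Type u), topologicalKrullDim C = 1) {y : X}
    (hy : ¬ IsField (X.presheaf.stalk y)) : IsClosed ({y} : Set X) := by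
  by_contra hc
  exact hy (mem_genericPoints_iff.1 (mem_genericPoints_of_maximal fun _ h => PureLib.eq_of_specializes hpure hc h))

theorem isClosed_subcurve [IsNoetherian X] {T : Set X} (hT : VecSt.IsSubcurve X T) : IsClosed T := by
  obtain ⟨S, hS, -, rfl⟩ := hT
  rw [Set.sUnion_eq_biUnion]
  exact Set.Finite.isClosed_biUnion (NoetherianSpace.finite_irreducibleComponents.subset hS)
    fun C hC => isClosed_of_mem_irreducibleComponents C (hS hC)

theorem closure_subset_of_generic {T : Set X} (hT : IsClosed T) {y : X} (hy : y ∈ T) :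
    closure ({y} : Set X) ⊆ T := hT.closure_subset_iff.2 (Set.singleton_subset_iff.2 hy)

theorem exists_generic_of_component {C : Set X} (hC : C ∈ irreducibleComponents (X : Type u)) :
    ∃ y ∈ genericPoints X, closure ({y} : Set X) = C ∧ y ∈ C := by
  obtain ⟨g, hg⟩ := QuasiSober.sober hC.1 (isClosed_of_mem_irreducibleComponents C hC)
  have hg' : closure ({g} : Set X) = C := hg
  exact ⟨g, show closure ({g} : Set X) ∈ irreducibleComponents (X : Type u) from hg'.symm ▸ hC, hg',
    hg' ▸ subset_closure rfl⟩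

theorem exists_generic_of_subcurve {T : Set X} (hT : VecSt.IsSubcurve X T) :
    ∃ y ∈ genericPoints X, y ∈ T := by
  obtain ⟨S, hS, ⟨C, hC⟩, rfl⟩ := hT
  obtain ⟨y, hy, -, hyC⟩ := exists_generic_of_component (hS hC)
  exact ⟨y, hy, C, hC, hyC⟩

/-- A union of components is detected by generic points. -/
theorem subset_of_generic {T T' : Set X} (hT : VecSt.IsSubcurve X T) (hT' : IsClosed T')
    (h : ∀ y ∈ genericPoints X, y ∈ T → y ∈ T') : T ⊆ T' := by
  obtain ⟨S, hS, -, rfl⟩ := hT
  rintro x ⟨C, hC, hx⟩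
  obtain ⟨y, hy, hcl, hyC⟩ := exists_generic_of_component (hS hC)
  exact closure_subset_of_generic hT' (h y hy ⟨C, hC, hyC⟩) (hcl.ge hx)

/-! ### Rank one -/

theorem injective_of_rankOne {K : Type u} [CommRing K] (hK : IsField K) {A B : Type u} [AddCommGroup A] [Module K A]
    [AddCommGroup B] [Module K B] (e : A ≃ₗ[K] K) (f : A →ₗ[K] B) (hf : ∃ v, f v ≠ 0) : Function.Injective f := by
  refine (injective_iff_map_eq_zero f).2 fun v hv => ?_
  by_contra hv0
  have he : e v ≠ 0 := fun h => hv0 (e.injective (h.trans (map_zero e).symm))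
  obtain ⟨b, hb⟩ := hK.mul_inv_cancel he
  obtain ⟨w, hw⟩ := hf
  refine hw ?_
  have : w = (e w * b) • v := e.injective (by rw [map_smul, smul_eq_mul, mul_assoc, mul_comm b, hb, mul_one])
  rw [this, map_smul, hv, smul_zero]

theorem exists_ne_zero_of_rkOne {M : X.Modules} (hM : TFOne.IsRkOne X M) {y : X} (hy : y ∈ genericPoints X) :
    ∃ v : M.presheaf.stalk y, v ≠ 0 := by
  obtain ⟨e⟩ := hM y hy
  exact ⟨e.symm 1, fun h => one_ne_zero (α := X.presheaf.stalk y) (by rw [← e.apply_symm_apply 1, h, map_zero])⟩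

theorem not_isZero_of_rkOne {M : X.Modules} (hM : TFOne.IsRkOne X M) {y : X} (hy : y ∈ genericPoints X) :
    ¬ IsZero M := fun h => by
  obtain ⟨v, hv⟩ := exists_ne_zero_of_rkOne hM hy
  exact hv ((subsingleton_stalk_of_isZero h y).elim _ _)

/-! ### Quotients -/

section Quot

variable [AlgebraicGeometry.IsReduced X] {M G : X.Modules} {T : Set X} {π : M ⟶ G}

theorem quot_surjective (hG : TFOne.IsQuotOn X M T G π) (y : X) : Function.Surjective (sl π y) :=
  haveI := hG.1
  sl_surjective π y

theorem quot_subsingleton (hG : TFOne.IsQuotOn X M T G π) {y : X} (hy : y ∉ T) :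
    Subsingleton (G.presheaf.stalk y) := by
  rw [← hG.2.2.2] at hy
  exact not_not.1 hy

theorem quot_injective (hM : TFOne.IsRkOne X M) (hG : TFOne.IsQuotOn X M T G π) {y : X}
    (hf : IsField (X.presheaf.stalk y)) (hy : y ∈ T) : Function.Injective (sl π y) := by
  obtain ⟨e⟩ := hM y (mem_genericPoints_iff.2 hf)
  refine injective_of_rankOne hf e _ ?_
  rw [← hG.2.2.2] at hy
  by_contra h
  push Not at h
  exact hy (subsingleton_of_forall_eq 0 fun w => by
    obtain ⟨v, rfl⟩ := quot_surjective hG y w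
    exact h v)

theorem quot_bijective (hM : TFOne.IsRkOne X M) (hG : TFOne.IsQuotOn X M T G π) {y : X}
    (hf : IsField (X.presheaf.stalk y)) (hy : y ∈ T) : Function.Bijective (sl π y) :=
  ⟨quot_injective hM hG hf hy, quot_surjective hG y⟩

theorem quot_det [IsLocallyNoetherian X] (hG : TFOne.IsQuotOn X M T G π) : Det G :=
  det_of_tf hG.2.1.1 hG.2.2.1

/-- A map into a detected module killed outside `T` at generic points factors through the quotient on `T`. -/
theorem exists_desc (hM : TFOne.IsRkOne X M) (hG : TFOne.IsQuotOn X M T G π) {H : X.Modules} (hH : Det H)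
    (f : M ⟶ H)
    (h : ∀ y : X, IsField (X.presheaf.stalk y) → y ∉ T → ∀ v : M.presheaf.stalk y, sl f y v = 0) :
    ∃ g : G ⟶ H, π ≫ g = f := by
  haveI := hG.1
  refine ⟨Abelian.epiDesc π f (hH.hom_eq_zero _ fun y hf v => ?_), Abelian.comp_epiDesc _ _ _⟩
  rw [sl_comp_apply]
  by_cases hy : y ∈ T
  · have h0 : sl π y (sl (kernel.ι π) y v) = 0 := by
      rw [← sl_comp_apply, kernel.condition, sl_zero]; rfl
    rw [(injective_iff_map_eq_zero _).1 (quot_injective hM hG hf hy) _ h0, map_zero]
  · exact h y hf hy _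

/-- Restriction between the quotients on nested subsets. -/
theorem exists_restrict [IsLocallyNoetherian X] (hM : TFOne.IsRkOne X M) (hG : TFOne.IsQuotOn X M T G π)
    {G' : X.Modules} {T' : Set X} {π' : M ⟶ G'} (hG' : TFOne.IsQuotOn X M T' G' π') (hle : T' ⊆ T) :
    ∃ g : G ⟶ G', π ≫ g = π' ∧ Epi g := by
  obtain ⟨g, hg⟩ := exists_desc hM hG (quot_det hG') π' fun y _ hy _ =>
    (quot_subsingleton hG' fun h => hy (hle h)).elim _ _
  haveI := hG'.1
  haveI : Epi (π ≫ g) := hg.symm ▸ inferInstance
  exact ⟨g, hg, epi_of_epi π g⟩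

end Quot

/-! ### Scalars -/

variable {k : Type u} [Field k] [X.Over (Spec (CommRingCat.of k))]

theorem sl_smulMod (M : X.Modules) (c : k) (y : X) (v : M.presheaf.stalk y) :
    sl (Formal.smulMod k M c) y v = Curv2.stalkMap k X y c • v := by
  obtain ⟨U, hy, s, rfl⟩ := M.presheaf.exists_germ_eq (x := y) v
  rw [sl_germ]
  have h : (Formal.smulMod k M c).app U s = (show Γ(X, U) from X.presheaf.map (homOfLE (le_top : U ≤ ⊤)).op
    (Coh.toGlobal (X ↘ Spec (CommRingCat.of k)) c)) • s := rfl
  rw [h, QCoh.germ_smul', TopCat.Presheaf.germ_res_apply]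
  rfl

theorem comp_smulMod {M N : X.Modules} (f : M ⟶ N) (c : k) :
    f ≫ Formal.smulMod k N c = Formal.smulMod k M c ≫ f := KLin.comp_smulModΓ f _

end Groth.Agent.TFQuot7

end
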