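import Groth.Agent.TFQuot7.Push
import Groth.Agent.PureLib.Supported
import Groth.Agent.VarGeom.Normal
import Groth.Agent.AssLib.Apply

/-! Existence of torsion-free quotients, the structure sheaf of a subcurve as quotient, and inclusion–exclusion
for additive invariants. -/

set_option autoImplicit false
set_option maxHeartbeats 400000
set_option backward.isDefEq.respectTransparency false
set_option backward.isDefEq.respectTransparency.types false
set_option linter.unusedSectionVars false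
set_option linter.style.haveILetI false

universe u

open CategoryTheory CategoryTheory.Limits AlgebraicGeometry TopologicalSpace Opposite

noncomputable section

namespace Groth.Agent.TFQuot7

open Groth.Agent CycK

variable {X : Scheme.{u}}

/-- A union of (possibly no) irreducible components. -/
def IsUC (T : Set X) : Prop := ∃ S : Set (Set X), S ⊆ irreducibleComponents (X : Type u) ∧ T = ⋃₀ S

theorem IsUC.of_subcurve {T : Set X} (h : VecSt.IsSubcurve X T) : IsUC T :=
  let ⟨S, h1, _, h3⟩ := h; ⟨S, h1, h3⟩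

theorem IsUC.subcurve {T : Set X} (h : IsUC T) (hne : T.Nonempty) : VecSt.IsSubcurve X T := by
  obtain ⟨S, hS, rfl⟩ := h
  obtain ⟨x, C, hC, -⟩ := hne
  exact ⟨S, hS, ⟨C, hC⟩, rfl⟩

theorem IsUC.isClosed [IsNoetherian X] {T : Set X} (h : IsUC T) : IsClosed T := by
  obtain ⟨S, hS, rfl⟩ := h
  rw [Set.sUnion_eq_biUnion]
  exact Set.Finite.isClosed_biUnion (NoetherianSpace.finite_irreducibleComponents.subset hS)
    fun C hC => isClosed_of_mem_irreducibleComponents C (hS hC)

theorem IsUC.subset_of_generic {T T' : Set X} (hT : IsUC T) (hT' : IsClosed T')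
    (h : ∀ y ∈ genericPoints X, y ∈ T → y ∈ T') : T ⊆ T' := by
  rcases T.eq_empty_or_nonempty with h0 | h0
  · rw [h0]; exact Set.empty_subset _
  · exact TFQuot7.subset_of_generic (hT.subcurve h0) hT' h

theorem IsUC.ext [IsNoetherian X] {T T' : Set X} (hT : IsUC T) (hT' : IsUC T')
    (h : ∀ y ∈ genericPoints X, y ∈ T ↔ y ∈ T') : T = T' :=
  (hT.subset_of_generic hT'.isClosed fun y hy => (h y hy).1).antisymm
    (hT'.subset_of_generic hT.isClosed fun y hy => (h y hy).2)

theorem isUC_empty : IsUC (∅ : Set X) := ⟨∅, Set.empty_subset _, Set.sUnion_empty.symm⟩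

theorem isUC_sUnion (P : Set X → Prop) : IsUC (⋃₀ {C | C ∈ irreducibleComponents (X : Type u) ∧ P C}) :=
  ⟨_, fun _ h => h.1, rfl⟩

theorem isUC_univ : IsUC (Set.univ : Set X) :=
  ⟨irreducibleComponents (X : Type u), subset_rfl,
    Set.Subset.antisymm (fun x _ => Set.mem_sUnion.2
      ⟨_, irreducibleComponent_mem_irreducibleComponents x, mem_irreducibleComponent⟩) (Set.subset_univ _)⟩

theorem IsUC.union {T T' : Set X} (hT : IsUC T) (hT' : IsUC T') : IsUC (T ∪ T') := by
  obtain ⟨S, hS, rfl⟩ := hT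
  obtain ⟨S', hS', rfl⟩ := hT'
  exact ⟨S ∪ S', Set.union_subset hS hS', (Set.sUnion_union _ _).symm⟩

theorem mem_meet_iff [IsNoetherian X] {Y Z : Set X} (hY : IsClosed Y) (hZ : IsClosed Z) {y : X}
    (hy : y ∈ genericPoints X) :
    y ∈ ⋃₀ {C | C ∈ irreducibleComponents (X : Type u) ∧ C ⊆ Y ∩ Z} ↔ y ∈ Y ∧ y ∈ Z :=
  ⟨fun ⟨_, hC, hyC⟩ => hC.2 hyC, fun h =>
    ⟨closure {y}, ⟨hy, closure_subset_of_generic (hY.inter hZ) ⟨h.1, h.2⟩⟩, subset_closure rfl⟩⟩

theorem mem_compl_iff [AlgebraicGeometry.IsReduced X] {Y : Set X} (hY : IsClosed Y) {y : X}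
    (hy : y ∈ genericPoints X) :
    y ∈ ⋃₀ {C | C ∈ irreducibleComponents (X : Type u) ∧ ¬ C ⊆ Y} ↔ y ∉ Y := by
  refine ⟨fun ⟨C, hC, hyC⟩ hyY => hC.2 ?_, fun h =>
    ⟨closure {y}, ⟨hy, fun hs => h (hs (subset_closure rfl))⟩, subset_closure rfl⟩⟩
  obtain ⟨g, -, hcl, -⟩ := exists_generic_of_component hC.1
  rw [← hcl] at hyC ⊢
  obtain rfl := TFCurvLib.eq_of_specializes_of_isField (mem_genericPoints_iff.1 hy)
    (specializes_iff_mem_closure.2 hyC)
  exact closure_subset_of_generic hY hyY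

variable [IsNoetherian X] [AlgebraicGeometry.IsReduced X]

theorem isTorsionFree_of_det {G : X.Modules} (hG : Coh.IsQCoh G) (hd : Det G) : TorSh.IsTorsionFree G := by
  intro x
  constructor
  intro r hr
  refine fun v w hvw => sub_eq_zero.1 ?_
  have h0 : r • (v - w) = 0 := by rw [smul_sub, sub_eq_zero]; exact hvw
  revert h0
  generalize v - w = t
  intro h0
  obtain ⟨U, hU, hxU, s, rfl⟩ := CycLib.exists_germ_affine G t
  obtain ⟨W, hxW, a, rfl⟩ := X.presheaf.exists_germ_eq r
  have hxUW : x ∈ U ⊓ W := ⟨hxU, hxW⟩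
  rw [← X.presheaf.germ_res_apply (homOfLE (inf_le_right : U ⊓ W ≤ W)) x hxUW a,
    ← G.presheaf.germ_res_apply (homOfLE (inf_le_left : U ⊓ W ≤ U)) x hxUW s, ← QCoh.germ_smul'] at h0
  obtain ⟨V, hxV, i, j, he⟩ := G.presheaf.germ_eq x hxUW hxUW _ 0 (h0.trans (map_zero _).symm)
  rw [map_zero] at he
  -- remove the components not passing through `x`
  have hfin : {g | g ∈ genericPoints X ∧ ¬ g ⤳ x}.Finite :=
    (genericPoints.finite (NoetherianSpace.finite_irreducibleComponents (α := X))).subset fun _ h => h.1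
  let F : Set X := ⋃ g ∈ {g | g ∈ genericPoints X ∧ ¬ g ⤳ x}, closure {g}
  have hF : IsClosed F := hfin.isClosed_biUnion fun _ _ => isClosed_closure
  have hxF : x ∉ F := fun h => by
    obtain ⟨g, hg, hxg⟩ := Set.mem_iUnion₂.1 h
    exact hg.2 (specializes_iff_mem_closure.2 hxg)
  let V' : X.Opens := V ⊓ ⟨Fᶜ, hF.isOpen_compl⟩
  have hxV' : x ∈ V' := ⟨hxV, hxF⟩
  have hle : V' ≤ U := fun z hz => (i.le hz.1).1
  rw [← G.presheaf.germ_res_apply (homOfLE hle) x hxV' s,
    hd V' (G.presheaf.map (homOfLE hle).op s) (fun y hy hf => ?_), map_zero]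
  rw [G.presheaf.germ_res_apply]
  have hspec : y ⤳ x := by
    by_contra hns
    exact hy.2 (Set.mem_iUnion₂.2 ⟨y, ⟨mem_genericPoints_iff.2 hf, hns⟩, subset_closure rfl⟩)
  have hyUW : y ∈ U ⊓ W := i.le hy.1
  have hz : G.presheaf.germ (U ⊓ W) y hyUW (X.presheaf.map (homOfLE (inf_le_right : U ⊓ W ≤ W)).op a •
      G.presheaf.map (homOfLE (inf_le_left : U ⊓ W ≤ U)).op s) = 0 := by
    rw [← G.presheaf.germ_res_apply i y hy.1, he, map_zero]
  rw [QCoh.germ_smul', X.presheaf.germ_res_apply, G.presheaf.germ_res_apply] at hz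
  obtain ⟨S, hS⟩ := VarGeom.exists_isLocalization_stalkSpecializes hspec
  letI := (X.presheaf.stalkSpecializes hspec).hom.toAlgebra
  haveI := hS
  haveI : Module.Flat (X.presheaf.stalk x) (X.presheaf.stalk y) := IsLocalization.flat _ S
  have hne : X.presheaf.germ W y hyUW.2 a ≠ 0 := by
    intro ha
    have hreg : IsSMulRegular (X.presheaf.stalk x) (X.presheaf.germ W x hxW a) := fun p q h => hr.left h
    have h1 := (Module.Flat.isSMulRegular_of_isRegular hr (M := X.presheaf.stalk y)) (a₁ := (1 : X.presheaf.stalk y)) (a₂ := 0)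
    refine one_ne_zero (α := X.presheaf.stalk y) (h1 ?_)
    show X.presheaf.germ W x hxW a • (1 : X.presheaf.stalk y) = X.presheaf.germ W x hxW a • (0 : X.presheaf.stalk y)
    rw [smul_zero, Algebra.smul_def, mul_one]
    exact (TopCat.Presheaf.germ_stalkSpecializes_apply (F := X.presheaf) hxW hspec a).trans ha
  obtain ⟨b, hb⟩ := hf.mul_inv_cancel hne
  have h2 := congrArg (b • ·) hz
  simp only [smul_smul, mul_comm b, hb, one_smul, smul_zero] at h2
  exact h2

theorem isTF1_structure : TFOne.IsTF1 X (Coh.structureModule X) := by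
  refine ⟨QCoh.isCoh_structureModule', fun x => ?_, fun x _ => ?_⟩
  · obtain ⟨e⟩ := AssLib.nonempty_stalkUnitEquiv (X := X) x
    exact Function.Injective.moduleIsTorsionFree e.symm e.symm.injective (fun _ _ => map_smul _ _ _)
  · obtain ⟨e⟩ := AssLib.nonempty_stalkUnitEquiv (X := X) x
    exact ⟨e.symm⟩

/-- Existence of the torsion-free quotient on a union of components. -/
theorem exists_quotOn {M : X.Modules} (hM : TFOne.IsTF1 X M) {T : Set X} (hT : IsUC T) :
    ∃ (G : X.Modules) (π : M ⟶ G), TFOne.IsQuotOn X M T G π := by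
  let T' : Set X := ⋃₀ {C | C ∈ irreducibleComponents (X : Type u) ∧ ¬ C ⊆ T}
  have hTc := hT.isClosed
  have hT'c : IsClosed T' := (isUC_sUnion _).isClosed
  have hcov : ∀ z : X, z ∉ T' → z ∈ T := fun z hz => by
    by_contra h
    exact hz ⟨_, ⟨irreducibleComponent_mem_irreducibleComponents z, fun hs => h (hs mem_irreducibleComponent)⟩,
      mem_irreducibleComponent⟩
  let N := PureLib.supported M T'
  haveI : Mono N.ι := QCoh.SubMod.mono_ι N
  have hN : Coh.IsCoh N.toModules := PureLib.isCoh_supported hM.1 hT'c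
  have hMd : Det M := det_of_tf hM.1.1 hM.2.1
  have hsupp := PureLib.support_supported hM.1 hT'c
  let π := cokernel.π N.ι
  have hG : Coh.IsCoh (cokernel N.ι) := QCoh.isCoh_cokernel hN.1 hM.1 N.ι
  have hex : (ShortComplex.mk N.ι π (cokernel.condition N.ι)).Exact :=
    ShortComplex.exact_of_g_is_cokernel _ (cokernelIsCokernel N.ι)
  have hinj : ∀ y : X, IsField (X.presheaf.stalk y) → y ∈ T → Function.Injective (sl π y) := fun y hf hy => by
    refine (injective_iff_map_eq_zero _).2 fun v hv => ?_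
    obtain ⟨w, rfl⟩ := (sl_exact hex y v).1 hv
    have hy' : y ∉ T' := fun h => (mem_compl_iff hTc (mem_genericPoints_iff.2 hf)).1 h hy
    rw [(not_not.1 fun h => hy' (hsupp h) : Subsingleton (N.toModules.presheaf.stalk y)).elim w 0, map_zero]
  have hd : Det (cokernel N.ι) := fun U g hg => by
    refine TopCat.Presheaf.section_ext ⟨(cokernel N.ι).presheaf, (cokernel N.ι).isSheaf⟩ U _ _ fun x hx => ?_
    show (cokernel N.ι).presheaf.germ U x hx g = (cokernel N.ι).presheaf.germ U x hx 0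
    rw [map_zero]
    obtain ⟨V, hV, hxV, hVU⟩ := exists_isAffineOpen_mem_and_subset (x := x) (U := U) hx
    have hle : V ≤ U := hVU
    obtain ⟨s, hs⟩ := QCoh.app_surjective_of_epi hM.1.1 hG.1 π hV ((cokernel N.ι).presheaf.map (homOfLE hle).op g)
    have hmem : s ∈ N.mem V := fun z hz hzT' => by
      let V' : X.Opens := V ⊓ ⟨T'ᶜ, hT'c.isOpen_compl⟩
      have hzV' : z ∈ V' := ⟨hz, hzT'⟩
      rw [← M.presheaf.germ_res_apply (homOfLE (inf_le_left : V' ≤ V)) z hzV' s,
        hMd V' (M.presheaf.map (homOfLE (inf_le_left : V' ≤ V)).op s) (fun y hy hf => ?_), map_zero]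
      rw [M.presheaf.germ_res_apply]
      refine hinj y hf (hcov y hy.2) ?_
      rw [map_zero, sl_germ, hs, (cokernel N.ι).presheaf.germ_res_apply]
      exact hg y (hle hy.1) hf
    obtain ⟨t, ht⟩ := N.exists_app_eq hmem
    have h0 : π.app V s = 0 := by
      rw [← ht]
      exact congr(($(cokernel.condition N.ι)).app V t)
    rw [← (cokernel N.ι).presheaf.germ_res_apply (homOfLE hle) x hxV g, ← hs, h0, map_zero]
  refine ⟨_, π, inferInstance, hG, isTorsionFree_of_det hG.1 hd,
    (hd.support_subset hTc fun y hf hyT => ?_).antisymm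
      (hT.subset_of_generic (QCoh.isClosed_support_of_isFT hG.1 hG.2) fun y hy hyT hs => ?_)⟩
  · refine subsingleton_of_forall_eq 0 fun v => ?_
    obtain ⟨m, rfl⟩ := sl_surjective π y v
    obtain ⟨U, hyU, s, rfl⟩ := M.presheaf.exists_germ_eq (x := y) m
    let V' : X.Opens := U ⊓ ⟨Tᶜ, hTc.isOpen_compl⟩
    have hyV' : y ∈ V' := ⟨hyU, hyT⟩
    have hmem : M.presheaf.map (homOfLE (inf_le_left : V' ≤ U)).op s ∈ N.mem V' :=
      fun z hz hzT' => absurd (hcov z hzT') hz.2
    obtain ⟨t, ht⟩ := N.exists_app_eq hmem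
    rw [← M.presheaf.germ_res_apply (homOfLE (inf_le_left : V' ≤ U)) y hyV' s, sl_germ, ← ht,
      show π.app V' (N.ι.app V' t) = 0 from congr(($(cokernel.condition N.ι)).app V' t), map_zero]
  · obtain ⟨v, hv⟩ := exists_ne_zero_of_rkOne hM.2.2 hy
    exact hv (hinj y (mem_genericPoints_iff.1 hy) hyT (hs.elim _ _))

/-- Quotients on the same subset are isomorphic. -/
theorem exists_iso_quot {M : X.Modules} (hM : TFOne.IsRkOne X M) {T : Set X} {G G' : X.Modules} {π : M ⟶ G}
    {π' : M ⟶ G'} (hG : TFOne.IsQuotOn X M T G π) (hG' : TFOne.IsQuotOn X M T G' π') :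
    ∃ e : G ≅ G', π ≫ e.hom = π' := by
  obtain ⟨g, hg, -⟩ := exists_restrict hM hG hG' subset_rfl
  obtain ⟨g', hg', -⟩ := exists_restrict hM hG' hG subset_rfl
  haveI := hG.1
  haveI := hG'.1
  exact ⟨⟨g, g', by rw [← cancel_epi π, reassoc_of% hg, hg', Category.comp_id],
    by rw [← cancel_epi π', reassoc_of% hg', hg, Category.comp_id]⟩, hg⟩

/-- The restriction map to a closed subscheme. -/
def resMap {S : Scheme.{u}} (j : S ⟶ X) : Coh.structureModule X ⟶ (Coh.push j).obj (Coh.structureModule S) :=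
  SheafOfModules.unitToPushforwardObjUnit j.toRingCatSheafHom

theorem isQuotOn_structure {T : Set X} (hT : IsClosed T) (hTs : VecSt.IsSubcurve X T) :
    TFOne.IsQuotOn X (Coh.structureModule X) T
      ((Coh.push (VecSt.subschι X T hT)).obj (Coh.structureModule (VecSt.subsch X T hT)))
      (resMap (VecSt.subschι X T hT)) := by
  haveI := H23.RedSub.isReduced_vanishingIdeal (⟨T, hT⟩ : Closeds X)
  haveI := LocallyOfFiniteType.isLocallyNoetherian (VecSt.subschι X T hT)
  haveI : IsNoetherian (VecSt.subsch X T hT) :=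
    { __ := LocallyOfFiniteType.isLocallyNoetherian (VecSt.subschι X T hT)
      __ := QuasiCompact.compactSpace_of_compactSpace (VecSt.subschι X T hT) }
  have hO := isTF1_structure (X := VecSt.subsch X T hT)
  have hc : Coh.IsCoh ((Coh.push (VecSt.subschι X T hT)).obj (Coh.structureModule (VecSt.subsch X T hT))) :=
    QCoh.isCoh_push _ hO.1
  have hd := det_push hT hTs (det_of_tf hO.1.1 hO.2.1)
  refine ⟨?_, hc, isTorsionFree_of_det hc.1 hd,
    Set.Subset.antisymm (fun x hx => by_contra fun h => hx (subsingleton_push hT hO.1.1 h))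
      (TFQuot7.subset_of_generic hTs (QCoh.isClosed_support_of_isFT hc.1 hc.2) fun y hy hyT hs => ?_)⟩
  · have hqc := QCoh.isQCoh_cokernel (isTF1_structure (X := X)).1.1 hc.1 (resMap (VecSt.subschι X T hT))
    refine Abelian.epi_of_cokernel_π_eq_zero _ ((IsZero.eq_of_tgt ?_) _ _)
    refine QCoh.isZero_of_app_eq_zero hqc fun V x => ?_
    obtain ⟨y, rfl⟩ := QCoh.app_surjective_of_epi hc.1 hqc (cokernel.π _) V.2 x
    obtain ⟨w, hw⟩ := (isClosedImmersion_iff_isAffineHom.1 (inferInstance : IsClosedImmersion (VecSt.subschι X T hT))).2 V.1 V.2 y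
    have h : (resMap (VecSt.subschι X T hT)).app V.1 w = y := hw
    rw [← h]
    exact congr(($(cokernel.condition (resMap (VecSt.subschι X T hT)))).app V.1 w)
  · obtain ⟨v, hv⟩ := exists_ne_zero_push hT hO.2.2 (mem_genericPoints_iff.1 hy) hyT
    exact hv (hs.elim _ _)

end Groth.Agent.TFQuot7

end
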