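import Groth.Agent.TFQuot7.Basic
import Groth.Agent.KZ.OpenExt

/-! Inclusion–exclusion inequality for Euler characteristics of torsion-free quotients. -/

set_option autoImplicit false
set_option maxHeartbeats 400000
set_option backward.isDefEq.respectTransparency false
set_option backward.isDefEq.respectTransparency.types false
set_option linter.unusedSectionVars false
set_option linter.style.haveILetI false

universe u

open CategoryTheory CategoryTheory.Limits AlgebraicGeometry TopologicalSpace Opposite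

noncomputable section

namespace Groth.Agent.TFQuot7

open Groth.Agent CycK

variable {X : Scheme.{u}}

theorem sl_sl_comp {A B C : X.Modules} {f : A ⟶ B} {g : B ⟶ C} {h : A ⟶ C} (w : f ≫ g = h) (y : X)
    (v : A.presheaf.stalk y) : sl g y (sl f y v) = sl h y v := by rw [← sl_comp_apply, w]

theorem sl_neg {A B : X.Modules} (φ : A ⟶ B) (y : X) (v : A.presheaf.stalk y) : sl (-φ) y v = - sl φ y v := by
  have h := sl_sub 0 φ y v
  rw [zero_sub, sl_zero] at h
  rw [h]; exact zero_sub _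

theorem biprod_ext {A B : X.Modules} (y : X) {m n : (A ⊞ B : X.Modules).presheaf.stalk y}
    (h₁ : sl (biprod.fst : A ⊞ B ⟶ A) y m = sl (biprod.fst : A ⊞ B ⟶ A) y n)
    (h₂ : sl (biprod.snd : A ⊞ B ⟶ B) y m = sl (biprod.snd : A ⊞ B ⟶ B) y n) : m = n := by
  have hid : ∀ m : (A ⊞ B : X.Modules).presheaf.stalk y,
      m = sl (biprod.inl : A ⟶ A ⊞ B) y (sl (biprod.fst : A ⊞ B ⟶ A) y m) +
        sl (biprod.inr : B ⟶ A ⊞ B) y (sl (biprod.snd : A ⊞ B ⟶ B) y m) := fun m => by
    have h := sl_add ((biprod.fst : A ⊞ B ⟶ A) ≫ biprod.inl) ((biprod.snd : A ⊞ B ⟶ B) ≫ biprod.inr) y m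
    rw [biprod.total, sl_id, sl_comp_apply, sl_comp_apply] at h
    exact h
  rw [hid m, hid n, h₁, h₂]

theorem sl_desc {A B C : X.Modules} (r : A ⟶ C) (s : B ⟶ C) (y : X) (m : (A ⊞ B : X.Modules).presheaf.stalk y) :
    sl (biprod.desc r s) y m =
      sl r y (sl (biprod.fst : A ⊞ B ⟶ A) y m) + sl s y (sl (biprod.snd : A ⊞ B ⟶ B) y m) := by
  rw [← sl_comp_apply, ← sl_comp_apply, ← sl_add, ← biprod.desc_eq]

/-- A detected module is embedded by two maps that are jointly injective at field points. -/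
theorem mono_lift {U A B : X.Modules} (hU : Det U) (a : U ⟶ A) (b : U ⟶ B)
    (h : ∀ y : X, IsField (X.presheaf.stalk y) → ∀ v, sl a y v = 0 → sl b y v = 0 → v = 0) :
    Mono (biprod.lift a b) := by
  refine Preadditive.mono_of_kernel_zero ?_
  refine hU.hom_eq_zero _ fun y hf v => h y hf _ ?_ ?_
  · rw [← sl_comp_apply, show kernel.ι (biprod.lift a b) ≫ a = 0 by
      calc kernel.ι (biprod.lift a b) ≫ a
          = (kernel.ι (biprod.lift a b) ≫ biprod.lift a b) ≫ (biprod.fst : A ⊞ B ⟶ A) := by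
            rw [Category.assoc, biprod.lift_fst]
        _ = 0 := by rw [kernel.condition, zero_comp], sl_zero]; rfl
  · rw [← sl_comp_apply, show kernel.ι (biprod.lift a b) ≫ b = 0 by
      calc kernel.ι (biprod.lift a b) ≫ b
          = (kernel.ι (biprod.lift a b) ≫ biprod.lift a b) ≫ (biprod.snd : A ⊞ B ⟶ B) := by
            rw [Category.assoc, biprod.lift_snd]
        _ = 0 := by rw [kernel.condition, zero_comp], sl_zero]; rfl

theorem subsingleton_cokernel_lift {U A B C : X.Modules} (a : U ⟶ A) (b : U ⟶ B) (r : A ⟶ C) (s : B ⟶ C)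
    (w : biprod.lift a b ≫ biprod.desc r s = 0) (y : X)
    (h : ∀ p q, sl r y p + sl s y q = 0 → ∃ v, sl a y v = p ∧ sl b y v = q) :
    Subsingleton ((cokernel (kernel.lift (biprod.desc r s) (biprod.lift a b) w)).presheaf.stalk y) := by
  refine subsingleton_cokernel _ fun x => ?_
  obtain ⟨v, hv1, hv2⟩ := h _ _ (by
    rw [← sl_desc r s y (sl (kernel.ι (biprod.desc r s)) y x), ← sl_comp_apply, kernel.condition, sl_zero]; rfl)
  refine ⟨v, sl_injective (kernel.ι (biprod.desc r s)) y ?_⟩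
  rw [sl_sl_comp (kernel.lift_ι _ _ w)]
  refine biprod_ext y ?_ ?_
  · rw [sl_sl_comp (biprod.lift_fst a b)]; exact hv1
  · rw [sl_sl_comp (biprod.lift_snd a b)]; exact hv2

variable (k : Type u) [Field k] [X.Over (Spec (CommRingCat.of k))] [IsProper (X ↘ Spec (CommRingCat.of k))]

theorem euler_biprod {A B : X.Modules} (hA : Coh.IsCoh A) (hB : Coh.IsCoh B) :
    Curv2.euler k X (A ⊞ B : X.Modules) = Curv2.euler k X A + Curv2.euler k X B := by
  haveI := CurveCohLib.isNoetherian_of_proper (k := k) (X := X)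
  have hAB : Coh.IsCoh (A ⊞ B : X.Modules) := KZ.isCoh_biprod hA hB
  let S : ShortComplex X.Modules :=
    ShortComplex.mk (biprod.inl : A ⟶ A ⊞ B) (biprod.snd : A ⊞ B ⟶ B) biprod.inl_snd
  let sp : S.Splitting := { r := biprod.fst, s := biprod.inr }
  have hS : S.ShortExact := sp.shortExact
  exact CurveCohLib.euler_additive (k := k) (S := S) hS hA hAB hB

theorem euler_union_add_meet_le [AlgebraicGeometry.IsReduced X]
    (hpure : ∀ C ∈ irreducibleComponents (X : Type u), topologicalKrullDim C = 1)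
    {M : X.Modules} (hM : TFOne.IsTF1 X M) {Y Z W : Set X} (hY : IsClosed Y) (hZ : IsClosed Z)
    (hW : W = ⋃₀ {C | C ∈ irreducibleComponents (X : Type u) ∧ C ⊆ Y ∩ Z})
    {GY GZ GU GW : X.Modules} {πY : M ⟶ GY} {πZ : M ⟶ GZ} {πU : M ⟶ GU} {πW : M ⟶ GW}
    (hGY : TFOne.IsQuotOn X M Y GY πY) (hGZ : TFOne.IsQuotOn X M Z GZ πZ)
    (hGU : TFOne.IsQuotOn X M (Y ∪ Z) GU πU) (hGW : TFOne.IsQuotOn X M W GW πW) :
    Curv2.euler k X GU + Curv2.euler k X GW ≤ Curv2.euler k X GY + Curv2.euler k X GZ := by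
  haveI := CurveCohLib.isNoetherian_of_proper (k := k) (X := X)
  have hr := hM.2.2
  have hWY : W ⊆ Y := hW ▸ Set.sUnion_subset fun C hC => hC.2.trans Set.inter_subset_left
  have hWZ : W ⊆ Z := hW ▸ Set.sUnion_subset fun C hC => hC.2.trans Set.inter_subset_right
  have hmem : ∀ y : X, IsField (X.presheaf.stalk y) → y ∈ Y → y ∈ Z → y ∈ W := fun y hf hy hz => by
    rw [hW]
    exact ⟨closure {y}, ⟨mem_genericPoints_iff.2 hf,
      closure_subset_of_generic (hY.inter hZ) ⟨hy, hz⟩⟩, subset_closure rfl⟩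
  obtain ⟨aY, haY, -⟩ := exists_restrict hr hGU hGY Set.subset_union_left
  obtain ⟨aZ, haZ, -⟩ := exists_restrict hr hGU hGZ Set.subset_union_right
  obtain ⟨rY, hrY, hrYe⟩ := exists_restrict hr hGY hGW hWY
  obtain ⟨rZ, hrZ, -⟩ := exists_restrict hr hGZ hGW hWZ
  haveI := hGU.1
  have haw : aY ≫ rY = aZ ≫ rZ := by
    rw [← cancel_epi πU, ← Category.assoc, ← Category.assoc, haY, haZ, hrY, hrZ]
  have hfg : biprod.lift aY aZ ≫ biprod.desc rY (-rZ) = 0 := by
    rw [biprod.lift_desc, Preadditive.comp_neg, haw, add_neg_cancel]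
  haveI : Epi (biprod.desc rY (-rZ)) := by
    haveI : Epi (biprod.inl ≫ biprod.desc rY (-rZ)) := by rw [biprod.inl_desc]; exact hrYe
    exact epi_of_epi biprod.inl _
  haveI hmono : Mono (biprod.lift aY aZ) := mono_lift (quot_det hGU) aY aZ fun y hf v h1 h2 => by
    obtain ⟨m, rfl⟩ := quot_surjective hGU y v
    rw [sl_sl_comp haY] at h1
    rw [sl_sl_comp haZ] at h2
    by_cases hy : y ∈ Y
    · rw [(injective_iff_map_eq_zero _).1 (quot_injective hr hGY hf hy) m h1, map_zero]
    by_cases hz : y ∈ Z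
    · rw [(injective_iff_map_eq_zero _).1 (quot_injective hr hGZ hf hz) m h2, map_zero]
    exact (quot_subsingleton hGU fun h => h.elim hy hz).elim _ _
  have hB : Coh.IsCoh (GY ⊞ GZ : X.Modules) := KZ.isCoh_biprod hGY.2.1 hGZ.2.1
  have hK : Coh.IsCoh (kernel (biprod.desc rY (-rZ))) := QCoh.isCoh_kernel hB hGW.2.1 _
  let e := kernel.lift (biprod.desc rY (-rZ)) (biprod.lift aY aZ) hfg
  haveI : Mono e := by
    haveI : Mono (e ≫ kernel.ι (biprod.desc rY (-rZ))) := by rw [kernel.lift_ι]; exact hmono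
    exact mono_of_mono _ (kernel.ι (biprod.desc rY (-rZ)))
  let S : ShortComplex X.Modules :=
    ShortComplex.mk (kernel.ι (biprod.desc rY (-rZ))) (biprod.desc rY (-rZ)) (kernel.condition _)
  have hS : S.ShortExact := { exact := ShortComplex.exact_kernel _ }
  have h2 : Curv2.euler k X (GY ⊞ GZ : X.Modules) =
      Curv2.euler k X (kernel (biprod.desc rY (-rZ))) + Curv2.euler k X GW :=
    CurveCohLib.euler_additive (k := k) (S := S) hS hK hB hGW.2.1
  rw [euler_biprod k hGY.2.1 hGZ.2.1] at h2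
  have hc : ∀ y ∈ CohB1.support (cokernel e), IsClosed ({y} : Set X) := fun y hy => by
    refine isClosed_of_not_isField hpure fun hf => hy ?_
    refine subsingleton_cokernel_lift aY aZ rY (-rZ) hfg y fun p q hpq => ?_
    rw [sl_neg, ← sub_eq_add_neg, sub_eq_zero] at hpq
    by_cases hy' : y ∈ Y
    · obtain ⟨m, rfl⟩ := quot_surjective hGY y p
      refine ⟨sl πU y m, sl_sl_comp haY y m, ?_⟩
      rw [sl_sl_comp haZ]
      by_cases hz : y ∈ Z
      · obtain ⟨n, rfl⟩ := quot_surjective hGZ y q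
        rw [sl_sl_comp hrY, sl_sl_comp hrZ] at hpq
        rw [quot_injective hr hGW hf (hmem y hf hy' hz) hpq]
      · exact (quot_subsingleton hGZ hz).elim _ _
    · obtain ⟨n, rfl⟩ := quot_surjective hGZ y q
      exact ⟨sl πU y n, (quot_subsingleton hGY hy').elim _ _, sl_sl_comp haZ y n⟩
  have h1 : Curv2.euler k X GU ≤ Curv2.euler k X (kernel (biprod.desc rY (-rZ))) :=
    (CurveCohLib.euler_le_of_mono (k := k) e hGU.2.1 hK hc).1
  omega

end Groth.Agent.TFQuot7

end
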