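import Groth.Agent.TFQuot7.Ev
import Groth.Agent.TFQuot7.Euler
import Groth.Agent.KZ.ClosedDev
import Groth.Agent.QCoh.DevissageP
import Mathlib.LinearAlgebra.Lagrange

/-! Simplicity of rank-one torsion-free modules on curves with geometrically integral components. -/

set_option autoImplicit false
set_option maxHeartbeats 400000
set_option backward.isDefEq.respectTransparency false
set_option backward.isDefEq.respectTransparency.types false
set_option linter.unusedSectionVars false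
set_option linter.style.haveILetI false

universe u

open CategoryTheory CategoryTheory.Limits AlgebraicGeometry TopologicalSpace Opposite

noncomputable section

namespace Groth.Agent.TFQuot7

open Groth.Agent CycK

variable (k : Type u) [Field k] {X : Scheme.{u}} [X.Over (Spec (CommRingCat.of k))]
  [IsProper (X ↘ Spec (CommRingCat.of k))] [AlgebraicGeometry.IsReduced X]

include k in
theorem det_of_isTF1 {M : X.Modules} (hM : TFOne.IsTF1 X M) : Det M :=
  haveI := CurveCohLib.isNoetherian_of_proper (k := k) (X := X)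
  det_of_tf hM.1.1 hM.2.1

theorem eq_smulMod {M : X.Modules} (hM : TFOne.IsTF1 X M) (φ : M ⟶ M) (c : k)
    (h : ∀ y (hy : y ∈ genericPoints X), ev hM.2.2 hy φ = Curv2.stalkMap k X y c) :
    φ = Formal.smulMod k M c :=
  (det_of_isTF1 k hM).hom_ext fun y hf v => by
    rw [ev_spec hM.2.2 (mem_genericPoints_iff.2 hf) φ, h y _, sl_smulMod]

theorem isSimple_of_quotOn {M : X.Modules} (hM : TFOne.IsTF1 X M) {Y Z : Set X}
    (hcov : Y ∪ Z = Set.univ) (hmeet : ∃ C ∈ irreducibleComponents (X : Type u), C ⊆ Y ∩ Z)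
    {GY GZ : X.Modules} {πY : M ⟶ GY} {πZ : M ⟶ GZ}
    (hGY : TFOne.IsQuotOn X M Y GY πY) (hGZ : TFOne.IsQuotOn X M Z GZ πZ)
    (hsY : ∀ φ : GY ⟶ GY, ∃ c : k, φ = Formal.smulMod k GY c)
    (hsZ : ∀ φ : GZ ⟶ GZ, ∃ c : k, φ = Formal.smulMod k GZ c) :
    ¬ IsZero M ∧ ∀ φ : M ⟶ M, ∃ c : k, φ = Formal.smulMod k M c := by
  haveI := CurveCohLib.isNoetherian_of_proper (k := k) (X := X)
  have hr := hM.2.2
  obtain ⟨C, hC, hCs⟩ := hmeet
  obtain ⟨η, hη, -, hηC⟩ := exists_generic_of_component hC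
  refine ⟨not_isZero_of_rkOne hr hη, fun φ => ?_⟩
  have key : ∀ {T : Set X} {G : X.Modules} {π : M ⟶ G}, TFOne.IsQuotOn X M T G π →
      (∀ ψ : G ⟶ G, ∃ c : k, ψ = Formal.smulMod k G c) →
      ∃ c : k, ∀ y (hy : y ∈ genericPoints X), y ∈ T → ev hr hy φ = Curv2.stalkMap k X y c := by
    intro T G π hG hs
    obtain ⟨g, hg⟩ := exists_desc hr hG (quot_det hG) (φ ≫ π) fun y _ hy _ =>
      (quot_subsingleton hG hy).elim _ _
    obtain ⟨c, rfl⟩ := hs g
    refine ⟨c, fun y hy hyT => ev_eq hr hy φ fun v => ?_⟩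
    refine quot_injective hr hG (mem_genericPoints_iff.1 hy) hyT ?_
    have h := congrArg (fun f => sl f y v) hg
    simp only [sl_comp_apply, sl_smulMod] at h
    rw [map_smul]
    exact h.symm
  obtain ⟨cY, hcY⟩ := key hGY hsY
  obtain ⟨cZ, hcZ⟩ := key hGZ hsZ
  have he : cY = cZ := stalkMap_injective k η ((hcY η hη (hCs hηC).1).symm.trans (hcZ η hη (hCs hηC).2))
  refine ⟨cY, eq_smulMod k hM φ cY fun y hy => ?_⟩
  rcases (hcov.ge (Set.mem_univ y) : y ∈ Y ∪ Z) with h | h
  · exact hcY y hy h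
  · rw [hcZ y hy h, he]

theorem not_decomp_of_simple {M : X.Modules} (hM : TFOne.IsTF1 X M)
    (hs : ∀ φ : M ⟶ M, ∃ c : k, φ = Formal.smulMod k M c) {Y Z : Set X} (hYs : VecSt.IsSubcurve X Y)
    (hZs : VecSt.IsSubcurve X Z) {GY GZ : X.Modules} {πY : M ⟶ GY} {πZ : M ⟶ GZ}
    (hGY : TFOne.IsQuotOn X M Y GY πY) (hGZ : TFOne.IsQuotOn X M Z GZ πZ) :
    ¬ IsIso (biprod.lift πY πZ) := by
  intro hiso
  haveI := hiso
  let φ : M ⟶ M := πY ≫ biprod.inl ≫ inv (biprod.lift πY πZ)
  have hY' : φ ≫ πY = πY := by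
    have : inv (biprod.lift πY πZ) ≫ πY = biprod.fst := by rw [IsIso.inv_comp_eq, biprod.lift_fst]
    simp only [φ, Category.assoc, this, biprod.inl_fst, Category.comp_id]
  have hZ' : φ ≫ πZ = 0 := by
    have : inv (biprod.lift πY πZ) ≫ πZ = biprod.snd := by rw [IsIso.inv_comp_eq, biprod.lift_snd]
    simp only [φ, Category.assoc, this, biprod.inl_snd, comp_zero]
  obtain ⟨c, hc⟩ := hs φ
  have hr := hM.2.2
  obtain ⟨y, hy, hyY⟩ := exists_generic_of_subcurve hYs
  obtain ⟨z, hz, hzZ⟩ := exists_generic_of_subcurve hZs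
  obtain ⟨v, hv⟩ := exists_ne_zero_of_rkOne hr hy
  obtain ⟨w, hw⟩ := exists_ne_zero_of_rkOne hr hz
  have h1 : c = 1 := by
    have h := congrArg (fun f => sl f y v) hY'
    simp only [sl_comp_apply, hc, sl_smulMod] at h
    have h' := quot_injective hr hGY (mem_genericPoints_iff.1 hy) hyY h
    obtain ⟨e⟩ := hr y hy
    have h'' := congrArg e h'
    rw [map_smul, smul_eq_mul] at h''
    have hev : e v ≠ 0 := fun h0 => hv (e.injective (h0.trans (map_zero e).symm))
    obtain ⟨b, hb⟩ := (mem_genericPoints_iff.1 hy).mul_inv_cancel hev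
    refine stalkMap_injective k y ?_
    have h3 := congrArg (· * b) h''
    simp only [mul_assoc, hb, mul_one] at h3
    rw [h3, map_one]
  have h := congrArg (fun f => sl f z w) hZ'
  simp only [sl_comp_apply, hc, h1, sl_smulMod, map_one, one_smul, sl_zero] at h
  exact hw ((injective_iff_map_eq_zero _).1 (quot_injective hr hGZ (mem_genericPoints_iff.1 hz) hzZ) w h)

include k in
theorem isQuotOn_kernel {M : X.Modules} (hM : TFOne.IsTF1 X M) (e f : M ⟶ M) (hef : e ≫ f = 0)
    (hid : kernel.ι f ≫ e = kernel.ι f) {T : Set X} (hT : VecSt.IsSubcurve X T)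
    (h1 : ∀ y (hy : y ∈ genericPoints X), y ∈ T → ev hM.2.2 hy e = 1)
    (h0 : ∀ y (hy : y ∈ genericPoints X), y ∉ T → ev hM.2.2 hy e = 0) :
    TFOne.IsQuotOn X M T (kernel f) (kernel.lift f e hef) := by
  haveI := CurveCohLib.isNoetherian_of_proper (k := k) (X := X)
  have hpi : kernel.ι f ≫ kernel.lift f e hef = 𝟙 _ := by
    rw [← cancel_mono (kernel.ι f), Category.assoc, kernel.lift_ι, hid, Category.id_comp]
  haveI : Epi (kernel.ι f ≫ kernel.lift f e hef) := by rw [hpi]; infer_instance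
  have hcoh : Coh.IsCoh (kernel f) := QCoh.isCoh_kernel hM.1 hM.1 f
  refine ⟨epi_of_epi (kernel.ι f) _, hcoh, isTorsionFree_of_mono hM.2.1 (kernel.ι f),
    (((det_of_isTF1 k hM).of_mono (kernel.ι f)).support_subset (isClosed_subcurve hT) fun y hf hyT => ?_).antisymm ?_⟩
  · refine subsingleton_of_forall_eq 0 fun v => sl_injective (kernel.ι f) y ?_
    have h := congrArg (fun φ => sl φ y v) hid
    simp only [sl_comp_apply, ev_spec hM.2.2 (mem_genericPoints_iff.2 hf) e, h0 y _ hyT, zero_smul] at h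
    rw [← h, map_zero]
  · have hcl : IsClosed (CohB1.support (kernel f)) := QCoh.isClosed_support_of_isFT hcoh.1 hcoh.2
    refine subset_of_generic hT hcl fun y hy hyT hsub => ?_
    obtain ⟨v, hv⟩ := exists_ne_zero_of_rkOne hM.2.2 hy
    refine hv ?_
    have h := sl_sl_comp (kernel.lift_ι f e hef) y v
    rw [hsub.elim (sl (kernel.lift f e hef) y v) 0, map_zero, ev_spec hM.2.2 hy e, h1 y hy hyT, one_smul] at h
    exact h.symm

theorem exists_decomp_of_not_simple [Nonempty X]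
    (hgi : ∀ (C : Set X) (hC : C ∈ irreducibleComponents (X : Type u)),
      GeometricallyIntegral (VecSt.subschι X C (isClosed_of_mem_irreducibleComponents C hC) ≫
        (X ↘ Spec (CommRingCat.of k))))
    {M : X.Modules} (hM : TFOne.IsTF1 X M) (φ : M ⟶ M) (hφ : ∀ c : k, φ ≠ Formal.smulMod k M c) :
    ∃ (Y Z : Set X) (_ : IsClosed Y) (_ : IsClosed Z) (GY GZ : X.Modules) (πY : M ⟶ GY) (πZ : M ⟶ GZ),
      VecSt.IsSubcurve X Y ∧ VecSt.IsSubcurve X Z ∧ Y ≠ Set.univ ∧ Z ≠ Set.univ ∧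
        TFOne.IsQuotOn X M Y GY πY ∧ TFOne.IsQuotOn X M Z GZ πZ ∧ IsIso (biprod.lift πY πZ) := by
  classical
  haveI := CurveCohLib.isNoetherian_of_proper (k := k) (X := X)
  have hr := hM.2.2
  choose c hc using fun y : genericPoints X => exists_scalar hr y.2 k hM.1 hgi φ
  haveI : Finite (genericPoints X) :=
    (genericPoints.finite (NoetherianSpace.finite_irreducibleComponents (α := X))).to_subtype
  letI := Fintype.ofFinite (genericPoints X)
  obtain ⟨η, hη, -⟩ := exists_generic_of_component (irreducibleComponent_mem_irreducibleComponents (Classical.arbitrary X))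
  set c₀ := c ⟨η, hη⟩ with hc0
  obtain ⟨η', hη', hne⟩ : ∃ (y : X) (hy : y ∈ genericPoints X), c ⟨y, hy⟩ ≠ c₀ := by
    by_contra h
    push Not at h
    exact hφ c₀ (eq_smulMod k hM φ c₀ fun y hy => by rw [← hc ⟨y, hy⟩, h y hy])
  set s : Finset k := Finset.univ.image c with hs
  set e : M ⟶ M := (Polynomial.aeval (show End M from φ) (Lagrange.basis s id c₀) : End M) with he
  have hev : ∀ y (hy : y ∈ genericPoints X), ev hr hy e = if c ⟨y, hy⟩ = c₀ then 1 else 0 := by
    intro y hy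
    have hmem : ∀ z, c z ∈ s := fun z => Finset.mem_image_of_mem c (Finset.mem_univ z)
    rw [he, ev_aeval hr hy k, ← hc ⟨y, hy⟩, Polynomial.eval₂_at_apply]
    split_ifs with h
    · rw [h, show Polynomial.eval c₀ (Lagrange.basis s id c₀) = 1 from
        Lagrange.eval_basis_self (v := id) Function.injective_id.injOn (hmem ⟨η, hη⟩), map_one]
    · rw [show Polynomial.eval (c ⟨y, hy⟩) (Lagrange.basis s id c₀) = 0 from
        Lagrange.eval_basis_of_ne (v := id) (Ne.symm h) (hmem _), map_zero]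
  have hee : e ≫ e = e := (det_of_isTF1 k hM).hom_ext fun y hf v => by
    rw [sl_comp_apply, ev_spec hr (mem_genericPoints_iff.2 hf) e, ev_spec hr (mem_genericPoints_iff.2 hf) e,
      smul_smul, hev y]
    split_ifs <;> simp
  let Y : Set X := ⋃₀ {C | ∃ (y : X) (hy : y ∈ genericPoints X), c ⟨y, hy⟩ = c₀ ∧ C = closure {y}}
  let Z : Set X := ⋃₀ {C | ∃ (y : X) (hy : y ∈ genericPoints X), c ⟨y, hy⟩ ≠ c₀ ∧ C = closure {y}}
  have hYs : VecSt.IsSubcurve X Y :=
    ⟨{C | ∃ (y : X) (hy : y ∈ genericPoints X), c ⟨y, hy⟩ = c₀ ∧ C = closure {y}},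
      by rintro C ⟨y, hy, -, rfl⟩; exact hy, ⟨closure {η}, η, hη, rfl, rfl⟩, rfl⟩
  have hZs : VecSt.IsSubcurve X Z :=
    ⟨{C | ∃ (y : X) (hy : y ∈ genericPoints X), c ⟨y, hy⟩ ≠ c₀ ∧ C = closure {y}},
      by rintro C ⟨y, hy, -, rfl⟩; exact hy, ⟨closure {η'}, η', hη', hne, rfl⟩, rfl⟩
  have hmax : ∀ {y z : X}, y ∈ genericPoints X → z ∈ genericPoints X → y ∈ closure ({z} : Set X) → z = y :=
    fun hy _ h => TFCurvLib.eq_of_specializes_of_isField (mem_genericPoints_iff.1 hy) (specializes_iff_mem_closure.2 h)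
  have hYm : ∀ y (hy : y ∈ genericPoints X), y ∈ Y ↔ c ⟨y, hy⟩ = c₀ := fun y hy => by
    refine ⟨?_, fun h => ⟨_, ⟨y, hy, h, rfl⟩, subset_closure rfl⟩⟩
    rintro ⟨C, ⟨z, hz, h, rfl⟩, hyC⟩
    obtain rfl := hmax hy hz hyC
    exact h
  have hZm : ∀ y (hy : y ∈ genericPoints X), y ∈ Z ↔ c ⟨y, hy⟩ ≠ c₀ := fun y hy => by
    refine ⟨?_, fun h => ⟨_, ⟨y, hy, h, rfl⟩, subset_closure rfl⟩⟩
    rintro ⟨C, ⟨z, hz, h, rfl⟩, hyC⟩
    obtain rfl := hmax hy hz hyC
    exact h
  have hef : e ≫ (𝟙 M - e) = 0 := by rw [Preadditive.comp_sub, Category.comp_id, hee, sub_self]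
  have hfe : (𝟙 M - e) ≫ e = 0 := by rw [Preadditive.sub_comp, Category.id_comp, hee, sub_self]
  have hid1 : kernel.ι (𝟙 M - e) ≫ e = kernel.ι (𝟙 M - e) := by
    have h := kernel.condition (𝟙 M - e)
    rw [Preadditive.comp_sub, Category.comp_id, sub_eq_zero] at h
    exact h.symm
  have hid2 : kernel.ι e ≫ (𝟙 M - e) = kernel.ι e := by
    rw [Preadditive.comp_sub, Category.comp_id, kernel.condition, sub_zero]
  have hev2 : ∀ y (hy : y ∈ genericPoints X), ev hr hy (𝟙 M - e) = if c ⟨y, hy⟩ = c₀ then 0 else 1 := by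
    intro y hy
    refine ev_eq hr hy _ fun v => ?_
    rw [sl_sub, sl_id, ev_spec hr hy e, hev y hy]
    split_ifs <;> simp
  have hQY : TFOne.IsQuotOn X M Y (kernel (𝟙 M - e)) (kernel.lift _ e hef) :=
    isQuotOn_kernel k hM e (𝟙 M - e) hef hid1 hYs (fun y hy h => by rw [hev y hy, if_pos ((hYm y hy).1 h)])
      (fun y hy h => by rw [hev y hy, if_neg fun h' => h ((hYm y hy).2 h')])
  have hQZ : TFOne.IsQuotOn X M Z (kernel e) (kernel.lift _ (𝟙 M - e) hfe) :=
    isQuotOn_kernel k hM (𝟙 M - e) e hfe hid2 hZs (fun y hy h => by rw [hev2 y hy, if_neg ((hZm y hy).1 h)])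
      (fun y hy h => by rw [hev2 y hy, if_pos (not_not.1 fun h' => h ((hZm y hy).2 h'))])
  refine ⟨Y, Z, isClosed_subcurve hYs, isClosed_subcurve hZs, _, _, _, _, hYs, hZs,
    fun h => hne ((hYm η' hη').1 (h.ge trivial)), fun h => (hZm η hη).1 (h.ge trivial) rfl, hQY, hQZ,
    ⟨biprod.desc (kernel.ι _) (kernel.ι _), ?_, ?_⟩⟩
  · rw [biprod.lift_desc, kernel.lift_ι, kernel.lift_ι, add_sub_cancel]
  · apply biprod.hom_ext' <;> apply biprod.hom_ext
    · simp only [Category.assoc, biprod.inl_desc_assoc, biprod.lift_fst, biprod.inl_fst, Category.comp_id]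
      rw [← cancel_mono (kernel.ι (𝟙 M - e)), Category.assoc, kernel.lift_ι, hid1, Category.id_comp]
    · simp only [Category.assoc, biprod.inl_desc_assoc, biprod.lift_snd, biprod.inl_snd, Category.comp_id]
      rw [← cancel_mono (kernel.ι e), Category.assoc, kernel.lift_ι, kernel.condition, zero_comp]
    · simp only [Category.assoc, biprod.inr_desc_assoc, biprod.lift_fst, biprod.inr_fst, Category.comp_id]
      rw [← cancel_mono (kernel.ι (𝟙 M - e)), Category.assoc, kernel.lift_ι, kernel.condition, zero_comp]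
    · simp only [Category.assoc, biprod.inr_desc_assoc, biprod.lift_snd, biprod.inr_snd, Category.comp_id]
      rw [← cancel_mono (kernel.ι e), Category.assoc, kernel.lift_ι, hid2, Category.id_comp]

end Groth.Agent.TFQuot7

end
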