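import Groth.Agent.TFQuot7.Simple
import Groth.Agent.KZ.ClosedDev
import Groth.Agent.QCoh.DevissageP
import Groth.Agent.H23.RedSub

/-! Direct images of torsion-free modules from subcurves, and simplicity of extensions. -/

set_option autoImplicit false
set_option maxHeartbeats 400000
set_option backward.isDefEq.respectTransparency false
set_option backward.isDefEq.respectTransparency.types false
set_option linter.unusedSectionVars false
set_option linter.style.haveILetI false

universe u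

open CategoryTheory CategoryTheory.Limits AlgebraicGeometry TopologicalSpace Opposite

noncomputable section

namespace Groth.Agent.TFQuot7

open Groth.Agent CycK

variable {X : Scheme.{u}}

section Closed

variable {T : Set X} (hT : IsClosed T)

theorem range_subschι : Set.range (VecSt.subschι X T hT) = T :=
  H23.RedSub.range_vanishingIdeal ⟨T, hT⟩

theorem field_of_field [AlgebraicGeometry.IsReduced X] (hTs : VecSt.IsSubcurve X T) {z : VecSt.subsch X T hT}
    (hz : IsField ((VecSt.subsch X T hT).presheaf.stalk z)) :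
    IsField (X.presheaf.stalk (VecSt.subschι X T hT z)) := by
  obtain ⟨S, hS, -, hTS⟩ := hTs
  set ι := VecSt.subschι X T hT with hι
  have hmem : ι z ∈ T := (range_subschι hT).le ⟨z, rfl⟩
  obtain ⟨C, hC, hzC⟩ : ∃ C ∈ S, ι z ∈ C := hTS.le hmem
  obtain ⟨g, hg, hcl, hgC⟩ := exists_generic_of_component (hS hC)
  obtain ⟨w, hw⟩ : g ∈ Set.range ι := (range_subschι hT).ge (hTS.ge ⟨C, hC, hgC⟩)
  have hspec : g ⤳ ι z := specializes_iff_mem_closure.2 (hcl.ge hzC)
  rw [← hw] at hspec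
  have hwz : w = z := TFCurvLib.eq_of_specializes_of_isField hz ((ι.isClosedEmbedding.isInducing.specializes_iff).1 hspec)
  rw [← hwz, hw]
  exact mem_genericPoints_iff.1 hg

theorem mem_genericPoints_of_image [AlgebraicGeometry.IsReduced X] {z : VecSt.subsch X T hT}
    (hz : IsField (X.presheaf.stalk (VecSt.subschι X T hT z))) : z ∈ genericPoints (VecSt.subsch X T hT) :=
  mem_genericPoints_of_maximal fun _ h => (VecSt.subschι X T hT).isClosedEmbedding.injective
    (TFCurvLib.eq_of_specializes_of_isField hz (h.map (VecSt.subschι X T hT).continuous))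

theorem det_push [AlgebraicGeometry.IsReduced X] (hTs : VecSt.IsSubcurve X T)
    {J : (VecSt.subsch X T hT).Modules} (hJ : Det J) :
    Det ((Coh.push (VecSt.subschι X T hT)).obj J) := by
  intro U s h
  refine hJ (VecSt.subschι X T hT ⁻¹ᵁ U) s fun z hz hf => ?_
  have h0 := h (VecSt.subschι X T hT z) hz (field_of_field hT hTs hf)
  obtain ⟨W, hxW, i, j, he⟩ := ((Coh.push (VecSt.subschι X T hT)).obj J).presheaf.germ_eq
    (VecSt.subschι X T hT z) hz hz s 0 (h0.trans (map_zero _).symm)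
  have hle : VecSt.subschι X T hT ⁻¹ᵁ W ≤ VecSt.subschι X T hT ⁻¹ᵁ U := fun w hw => i.le hw
  rw [map_zero] at he
  refine (J.presheaf.germ_res_apply (homOfLE hle) z hxW _).symm.trans ?_
  refine (congrArg (J.presheaf.germ (VecSt.subschι X T hT ⁻¹ᵁ W) z hxW) ?_).trans (map_zero _)
  exact he

theorem exists_ne_zero_push [AlgebraicGeometry.IsReduced X] {J : (VecSt.subsch X T hT).Modules}
    (hJ : TFOne.IsRkOne (VecSt.subsch X T hT) J) {y : X} (hy : IsField (X.presheaf.stalk y)) (hyT : y ∈ T) :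
    ∃ v : ((Coh.push (VecSt.subschι X T hT)).obj J).presheaf.stalk y, v ≠ 0 := by
  obtain ⟨z, rfl⟩ : y ∈ Set.range (VecSt.subschι X T hT) := by rw [range_subschι hT]; exact hyT
  obtain ⟨v, hv⟩ := exists_ne_zero_of_rkOne hJ (mem_genericPoints_of_image hT hy)
  obtain ⟨V, hzV, s, rfl⟩ := J.presheaf.exists_germ_eq (x := z) v
  obtain ⟨U, hU⟩ := KZ.ClosedDev.exists_preimage_eq (VecSt.subschι X T hT) V
  subst hU
  refine ⟨((Coh.push (VecSt.subschι X T hT)).obj J).presheaf.germ U (VecSt.subschι X T hT z) hzV s, fun h0 => hv ?_⟩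
  obtain ⟨W, hxW, i, j, he⟩ := ((Coh.push (VecSt.subschι X T hT)).obj J).presheaf.germ_eq
    (VecSt.subschι X T hT z) hzV hzV s 0 (h0.trans (map_zero _).symm)
  rw [map_zero] at he
  have hle : VecSt.subschι X T hT ⁻¹ᵁ W ≤ VecSt.subschι X T hT ⁻¹ᵁ U := fun w hw => i.le hw
  refine (J.presheaf.germ_res_apply (homOfLE hle) z hxW _).symm.trans ?_
  refine (congrArg (J.presheaf.germ (VecSt.subschι X T hT ⁻¹ᵁ W) z hxW) ?_).trans (map_zero _)
  exact he

theorem subsingleton_push {J : (VecSt.subsch X T hT).Modules} (hJ : Coh.IsQCoh J) {y : X} (hyT : y ∉ T) :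
    Subsingleton (((Coh.push (VecSt.subschι X T hT)).obj J).presheaf.stalk y) :=
  not_not.1 fun h => hyT ((range_subschι hT).le (QCoh.support_push_subset (VecSt.subschι X T hT) hJ h))

theorem push_smulMod {k : Type u} [Field k] [X.Over (Spec (CommRingCat.of k))]
    [(VecSt.subsch X T hT).Over (Spec (CommRingCat.of k))] [(VecSt.subschι X T hT).IsOver (Spec (CommRingCat.of k))]
    (J : (VecSt.subsch X T hT).Modules) (c : k) :
    (Coh.push (VecSt.subschι X T hT)).map (Formal.smulMod k J c) =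
      Formal.smulMod k ((Coh.push (VecSt.subschι X T hT)).obj J) c := by
  rw [← KLin.smul_id J c, ← KLin.smul_id _ c, Functor.map_smul, CategoryTheory.Functor.map_id]

end Closed

variable (k : Type u) [Field k] [X.Over (Spec (CommRingCat.of k))]
  [IsProper (X ↘ Spec (CommRingCat.of k))] [AlgebraicGeometry.IsReduced X]

/-- Endomorphisms of the direct image of a simple module are scalars. -/
theorem exists_scalar_push {T : Set X} (hT : IsClosed T) {I : (VecSt.subsch X T hT).Modules}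
    (hI : Coh.IsQCoh I)
    (hs : letI : (VecSt.subsch X T hT).Over (Spec (CommRingCat.of k)) :=
        ⟨VecSt.subschι X T hT ≫ (X ↘ Spec (CommRingCat.of k))⟩
      ∀ φ : I ⟶ I, ∃ c : k, φ = Formal.smulMod k I c)
    (f : (Coh.push (VecSt.subschι X T hT)).obj I ⟶ (Coh.push (VecSt.subschι X T hT)).obj I) :
    ∃ c : k, f = Formal.smulMod k ((Coh.push (VecSt.subschι X T hT)).obj I) c := by
  letI : (VecSt.subsch X T hT).Over (Spec (CommRingCat.of k)) :=
    ⟨VecSt.subschι X T hT ≫ (X ↘ Spec (CommRingCat.of k))⟩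
  haveI : (VecSt.subschι X T hT).IsOver (Spec (CommRingCat.of k)) := ⟨rfl⟩
  obtain ⟨u, hu⟩ := (KZ.ClosedDev.push_map_bijective (VecSt.subschι X T hT) (M := I) (N := I)
    (QCoh.isQCoh_pushforward _ hI)).2 f
  obtain ⟨c, hc⟩ := hs u
  refine ⟨c, ?_⟩
  rw [← hu, hc]
  exact push_smulMod hT I c

theorem isSimple_ext_iff {Y Z : Set X} (hY : IsClosed Y) (hZ : IsClosed Z) (hYs : VecSt.IsSubcurve X Y)
    (hZs : VecSt.IsSubcurve X Z) {M : X.Modules} (hM : TFOne.IsTF1 X M)
    {I : (VecSt.subsch X Y hY).Modules} (hI : TFOne.IsTF1 (VecSt.subsch X Y hY) I)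
    (hIs : ∀ f : (Coh.push (VecSt.subschι X Y hY)).obj I ⟶ (Coh.push (VecSt.subschι X Y hY)).obj I,
      ∃ c : k, f = Formal.smulMod k ((Coh.push (VecSt.subschι X Y hY)).obj I) c)
    {J : (VecSt.subsch X Z hZ).Modules} (hJ : TFOne.IsTF1 (VecSt.subsch X Z hZ) J)
    (hJs : ∀ f : (Coh.push (VecSt.subschι X Z hZ)).obj J ⟶ (Coh.push (VecSt.subschι X Z hZ)).obj J,
      ∃ c : k, f = Formal.smulMod k ((Coh.push (VecSt.subschι X Z hZ)).obj J) c)
    (a : (Coh.push (VecSt.subschι X Y hY)).obj I ⟶ M) (b : M ⟶ (Coh.push (VecSt.subschι X Z hZ)).obj J)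
    (w : a ≫ b = 0) (hex : (ShortComplex.mk a b w).ShortExact) :
    (¬ IsZero M ∧ ∀ φ : M ⟶ M, ∃ c : k, φ = Formal.smulMod k M c) ↔ ¬ IsSplitEpi b := by
  haveI := CurveCohLib.isNoetherian_of_proper (k := k) (X := X)
  haveI := LocallyOfFiniteType.isLocallyNoetherian (VecSt.subschι X Y hY)
  haveI := LocallyOfFiniteType.isLocallyNoetherian (VecSt.subschι X Z hZ)
  haveI : Mono a := hex.mono_f
  haveI : Epi b := hex.epi_g
  obtain ⟨η, hη, hηY⟩ := exists_generic_of_subcurve hYs
  obtain ⟨ζ, hζ, hζZ⟩ := exists_generic_of_subcurve hZs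
  obtain ⟨vI, hvI⟩ := exists_ne_zero_push hY hI.2.2 (mem_genericPoints_iff.1 hη) hηY
  obtain ⟨vJ, hvJ⟩ := exists_ne_zero_push hZ hJ.2.2 (mem_genericPoints_iff.1 hζ) hζZ
  constructor
  · rintro ⟨-, hs⟩ ⟨⟨⟨s, hs'⟩⟩⟩
    obtain ⟨c, hc⟩ := hs (b ≫ s)
    have h1 : Formal.smulMod k ((Coh.push (VecSt.subschι X Y hY)).obj I) c ≫ a = 0 := by
      rw [← comp_smulMod a c, ← hc, ← Category.assoc, w, zero_comp]
    have hc0 : c = 0 := by
      by_contra hne
      have h := congrArg (fun f => sl f η vI) h1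
      simp only [sl_comp_apply, sl_smulMod, sl_zero] at h
      rw [map_smul] at h
      have h' := (((Ne.isUnit hne).map (Curv2.stalkMap k X η)).smul_eq_zero).1 h
      exact hvI ((injective_iff_map_eq_zero _).1 (sl_injective a η) vI h')
    obtain ⟨m, hm⟩ := sl_surjective b ζ vJ
    have h2 : Formal.smulMod k M c ≫ b = b := by rw [← hc, Category.assoc, hs', Category.comp_id]
    have h := congrArg (fun f => sl f ζ m) h2
    simp only [sl_comp_apply, sl_smulMod, hc0, map_zero, zero_smul, map_zero, hm] at h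
    exact hvJ h.symm
  · intro hns
    have hdisj : ∀ y : X, IsField (X.presheaf.stalk y) → y ∈ Y → y ∈ Z → False := by
      intro y hf hy hz
      obtain ⟨v, hv⟩ := exists_ne_zero_push hY hI.2.2 hf hy
      obtain ⟨u, hu⟩ := exists_ne_zero_push hZ hJ.2.2 hf hz
      obtain ⟨e⟩ := hM.2.2 y (mem_genericPoints_iff.2 hf)
      obtain ⟨m, hm⟩ := sl_surjective b y u
      have hinj := injective_of_rankOne hf e (sl b y) ⟨m, by rw [hm]; exact hu⟩
      refine hv ((injective_iff_map_eq_zero _).1 (sl_injective a y) v (hinj ?_))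
      rw [map_zero, sl_sl_comp w, sl_zero]; rfl
    refine ⟨not_isZero_of_rkOne hM.2.2 hη, fun φ => ?_⟩
    have hDJ : Det ((Coh.push (VecSt.subschι X Z hZ)).obj J) :=
      det_push hZ hZs (haveI := H23.RedSub.isReduced_vanishingIdeal (⟨Z, hZ⟩ : Closeds X); det_of_tf hJ.1.1 hJ.2.1)
    have hz : a ≫ φ ≫ b = 0 := hDJ.hom_eq_zero _ fun y hf v => by
      by_cases hy : y ∈ Y
      · exact (subsingleton_push hZ hJ.1.1 fun h => hdisj y hf hy h).elim _ _
      · rw [(subsingleton_push hY hI.1.1 hy).elim v 0, map_zero]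
    obtain ⟨fI, hfI⟩ : ∃ fI, fI ≫ a = a ≫ φ :=
      ⟨hex.fIsKernel.lift (KernelFork.ofι (a ≫ φ) (show (a ≫ φ) ≫ b = 0 by rw [Category.assoc, hz])),
        hex.fIsKernel.fac _ WalkingParallelPair.zero⟩
    obtain ⟨fJ, hfJ⟩ : ∃ fJ, b ≫ fJ = φ ≫ b :=
      ⟨hex.gIsCokernel.desc (CokernelCofork.ofπ (φ ≫ b) hz), hex.gIsCokernel.fac _ WalkingParallelPair.one⟩
    obtain ⟨cI, rfl⟩ := hIs fI
    obtain ⟨cJ, rfl⟩ := hJs fJ
    by_cases he : cI = cJ
    · subst he
      refine ⟨cI, eq_smulMod k hM φ cI fun y hy => ev_eq hM.2.2 hy φ fun v => ?_⟩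
      have hf := mem_genericPoints_iff.1 hy
      by_cases hyZ : y ∈ Z
      · obtain ⟨u, hu⟩ := exists_ne_zero_push hZ hJ.2.2 hf hyZ
        obtain ⟨m, hm⟩ := sl_surjective b y u
        obtain ⟨e⟩ := hM.2.2 y hy
        refine injective_of_rankOne hf e (sl b y) ⟨m, by rw [hm]; exact hu⟩ ?_
        rw [sl_sl_comp hfJ.symm, sl_comp_apply, sl_smulMod, map_smul]
      · obtain ⟨v', rfl⟩ : ∃ v', sl a y v' = v :=
          (sl_exact hex.exact y v).1 ((subsingleton_push hZ hJ.1.1 hyZ).elim _ _)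
        rw [sl_sl_comp hfI.symm, sl_comp_apply, sl_smulMod, map_smul]
    · exfalso
      refine hns ?_
      let ψ : M ⟶ M := Formal.smulMod k M (cJ - cI)⁻¹
      have hz' : a ≫ ((φ - Formal.smulMod k M cI) ≫ ψ) = 0 := by
        rw [← Category.assoc, Preadditive.comp_sub, ← hfI, comp_smulMod a cI, sub_self, zero_comp]
      obtain ⟨s, hs⟩ : ∃ s, b ≫ s = (φ - Formal.smulMod k M cI) ≫ ψ :=
        ⟨hex.gIsCokernel.desc (CokernelCofork.ofπ _ hz'), hex.gIsCokernel.fac _ WalkingParallelPair.one⟩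
      refine ⟨⟨⟨s, ?_⟩⟩⟩
      rw [← cancel_epi b, ← Category.assoc, hs, Category.comp_id, Category.assoc]
      show (φ - Formal.smulMod k M cI) ≫ Formal.smulMod k M (cJ - cI)⁻¹ ≫ b = b
      rw [← comp_smulMod b, ← Category.assoc, Preadditive.sub_comp, ← hfJ, ← comp_smulMod b cI,
        ← Preadditive.comp_sub, Category.assoc, ← KLin.smul_id, ← KLin.smul_id, ← KLin.smul_id, ← sub_smul,
        Linear.smul_comp, Category.id_comp, smul_smul, mul_inv_cancel₀ (sub_ne_zero.2 (Ne.symm he)), one_smul,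
        Category.comp_id]

end Groth.Agent.TFQuot7

end
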