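import Groth.Agent.TFQuot7.Deg
import Groth.Agent.AmpleVan.ThickPush
import Groth.Agent.KZ.ClosedDev
import Groth.Agent.KFlatLib.Scheme.ProjModule

/-! Elementary modifications along the closed fibre of a family over a discrete valuation ring: the four-term
exact sequence `0 → G → I'(s) → I(s) → G → 0`. -/

set_option autoImplicit false
set_option maxHeartbeats 400000
set_option backward.isDefEq.respectTransparency false
set_option backward.isDefEq.respectTransparency.types false
set_option linter.unusedSectionVars false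
set_option linter.style.haveILetI false

universe u

open CategoryTheory CategoryTheory.Limits AlgebraicGeometry TopologicalSpace Opposite

noncomputable section

namespace Groth.Agent.TFQuot7

open Groth.Agent CycK

variable {X : Scheme.{u}}

theorem exact_of_affine (S : ShortComplex X.Modules) (h2 : Coh.IsQCoh S.X₂) (h3 : Coh.IsQCoh S.X₃)
    (h : ∀ U : X.affineOpens, ∀ s : Γ(S.X₂, U.1), S.g.app U.1 s = 0 → ∃ t, S.f.app U.1 t = s) : S.Exact := by
  refine (KFlatLib.exact_iff_stalk S).2 fun x => ?_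
  rw [ShortComplex.ShortExact.moduleCat_exact_iff_function_exact]
  show Function.Exact (sl S.f x) (sl S.g x)
  refine fun v => ⟨fun hv => ?_, ?_⟩
  · obtain ⟨U, hU, hx, s, rfl⟩ := CycLib.exists_germ_affine S.X₂ v
    rw [sl_germ] at hv
    obtain ⟨a, ha, h0⟩ := (QCoh.germ_eq_zero_iff h3 hU hx _).1 hv
    obtain ⟨t, ht⟩ := h ⟨U, hU⟩ (a • s) ((Scheme.Modules.Hom.app_smul S.g a s).trans h0)
    obtain ⟨c, hc⟩ := ((X.mem_basicOpen _ x hx).1 ha).exists_left_inv
    refine ⟨c • S.X₁.presheaf.germ U x hx t, ?_⟩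
    rw [map_smul, sl_germ, ht, QCoh.germ_smul', ← mul_smul, hc, one_smul]
  · rintro ⟨w, rfl⟩
    rw [sl_sl_comp S.zero, sl_zero]; rfl

theorem mono_of_affine {A B : X.Modules} (φ : A ⟶ B)
    (h : ∀ U : X.affineOpens, Function.Injective (φ.app U.1)) : Mono φ :=
  QCoh.mono_of_isBasis φ X.isBasis_affineOpens fun U hU => h ⟨U, hU⟩

theorem epi_of_affine {A B : X.Modules} (φ : A ⟶ B) (hA : Coh.IsQCoh A) (hB : Coh.IsQCoh B)
    (h : ∀ U : X.affineOpens, Function.Surjective (φ.app U.1)) : Epi φ := by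
  have hqc := QCoh.isQCoh_cokernel hA hB φ
  refine Abelian.epi_of_cokernel_π_eq_zero φ ((IsZero.eq_of_tgt ?_) _ _)
  refine QCoh.isZero_of_app_eq_zero hqc fun V x => ?_
  obtain ⟨y, rfl⟩ := QCoh.app_surjective_of_epi hB hqc (cokernel.π φ) V.2 x
  obtain ⟨w, rfl⟩ := h V y
  exact congr(($(cokernel.condition φ)).app V.1 w)

variable {R : Type u} [CommRing R] [IsDomain R] [IsDiscreteValuationRing R] (f : X ⟶ Spec (CommRingCat.of R))
  {Xs : Scheme.{u}} {qs : Xs ⟶ Spec (CommRingCat.of (IsLocalRing.ResidueField R))} (i : Xs ⟶ X)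
  (hsq : IsPullback i qs f (Spec.map (CommRingCat.ofHom (IsLocalRing.residue R))))
  (ϖ : R) (hϖ : IsLocalRing.maximalIdeal R = Ideal.span {ϖ})

/-- Multiplication by a scalar of the base ring. -/
def tMap (M : X.Modules) (a : R) : M ⟶ M :=
  letI : X.Over (Spec (CommRingCat.of R)) := ⟨f⟩
  Formal.smulMod R M a

/-- A scalar of the base ring as a section. -/
def tSec (U : X.Opens) (a : R) : Γ(X, U) :=
  X.presheaf.map (homOfLE (le_top : U ≤ ⊤)).op (Coh.toGlobal f a)

theorem tMap_app (M : X.Modules) (a : R) (U : X.Opens) (s : Γ(M, U)) :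
    (tMap f M a).app U s = tSec f U a • s := rfl

theorem tMap_comm {M N : X.Modules} (g : M ⟶ N) (a : R) : g ≫ tMap f N a = tMap f M a ≫ g :=
  letI : X.Over (Spec (CommRingCat.of R)) := ⟨f⟩
  comp_smulModR g a
where
  comp_smulModR {M N : X.Modules} [X.Over (Spec (CommRingCat.of R))] (g : M ⟶ N) (a : R) :
      g ≫ Formal.smulMod R N a = Formal.smulMod R M a ≫ g := KLin.comp_smulModΓ g _

include hsq hϖ in
theorem isClosedImmersion_i : IsClosedImmersion i :=
  haveI : IsClosedImmersion (Spec.map (CommRingCat.ofHom (IsLocalRing.residue R))) :=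
    IsClosedImmersion.spec_of_surjective _ IsLocalRing.residue_surjective
  MorphismProperty.of_isPullback hsq.flip inferInstance

include hsq hϖ in
theorem ker_eq_span (U : X.affineOpens) : i.ker.ideal U = Ideal.span {tSec f U.1 ϖ} := by
  letI : X.Over (Spec (CommRingCat.of R)) := ⟨f⟩
  rw [AmpleVan.ker_ideal_of_isPullback (J := IsLocalRing.maximalIdeal R) (q := qs) hsq U, hϖ, Ideal.map_span,
    Set.image_singleton]
  rfl

include hsq hϖ in
theorem tMap_push_eq_zero [IsClosedImmersion i] (P : Xs.Modules) :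
    tMap f ((Scheme.Modules.pushforward i).obj P) ϖ = 0 := by
  refine Scheme.Modules.hom_ext _ _ fun U => ?_
  ext s
  show tSec f U ϖ • s = 0
  refine TopCat.Presheaf.section_ext ⟨((Scheme.Modules.pushforward i).obj P).presheaf,
    ((Scheme.Modules.pushforward i).obj P).isSheaf⟩ U _ _ fun x hx => ?_
  show ((Scheme.Modules.pushforward i).obj P).presheaf.germ U x hx _ =
    ((Scheme.Modules.pushforward i).obj P).presheaf.germ U x hx 0
  rw [map_zero]
  obtain ⟨V, hV, hxV, hVU⟩ := exists_isAffineOpen_mem_and_subset (x := x) (U := U) hx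
  have hle : V ≤ U := hVU
  rw [← ((Scheme.Modules.pushforward i).obj P).presheaf.germ_res_apply (homOfLE hle) x hxV, QCoh.map_smul',
    show X.presheaf.map (homOfLE hle).op (tSec f U ϖ) = tSec f V ϖ from QCoh.ringMap_map _ _ _,
    KZ.ClosedDev.killed_push i P ⟨V, hV⟩ (tSec f V ϖ)
      (by rw [ker_eq_span f i hsq ϖ hϖ ⟨V, hV⟩]; exact Ideal.subset_span rfl) _, map_zero]

include hsq hϖ in
theorem unit_app_eq_zero_iff [IsClosedImmersion i] {F : X.Modules} (hF : Coh.IsQCoh F) (U : X.affineOpens)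
    (x : Γ(F, U.1)) :
    ((Scheme.Modules.pullbackPushforwardAdjunction i).unit.app F).app U.1 x = 0 ↔
      ∃ y, tSec f U.1 ϖ • y = x := by
  rw [(QCoh.unit_app_closed i hF U.2).2 x, ker_eq_span f i hsq ϖ hϖ, Submodule.ideal_span_singleton_smul,
    Submodule.mem_smul_pointwise_iff_exists]
  simp only [Submodule.mem_top, true_and]
  exact Iff.rfl

include hϖ in
theorem tMap_injective {M : X.Modules} (hM : Coh.IsQCoh M) (hfl : FlatMod.IsFlatOver f M) (U : X.Opens) :
    Function.Injective ((tMap f M ϖ).app U) := by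
  refine (injective_iff_map_eq_zero _).2 fun s hs => ?_
  refine TopCat.Presheaf.section_ext ⟨M.presheaf, M.isSheaf⟩ U _ _ fun x hx => ?_
  show M.presheaf.germ U x hx s = M.presheaf.germ U x hx 0
  rw [map_zero]
  letI := FlatMod.moduleStalkOver f M x
  haveI : Module.Flat ((Spec (CommRingCat.of R)).presheaf.stalk (f.base x)) (M.presheaf.stalk x) := hfl x
  let r := (Spec (CommRingCat.of R)).presheaf.germ ⊤ (f.base x) trivial ((Scheme.ΓSpecIso (CommRingCat.of R)).inv ϖ)
  have hne : ϖ ≠ 0 := fun h => IsDiscreteValuationRing.not_a_field R (by rw [hϖ, h, Ideal.span_singleton_eq_bot])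
  haveI : AlgebraicGeometry.IsIntegral (Spec (CommRingCat.of R)) := inferInstance
  have hr : IsRegular r := by
    have h0 : r ≠ 0 := fun h => hne (by
      have h1 := germ_injective_of_isIntegral (X := Spec (CommRingCat.of R)) (f.base x) (U := ⊤) trivial
        (h.trans (map_zero _).symm)
      have h2 := congrArg (Scheme.ΓSpecIso (CommRingCat.of R)).hom h1
      rwa [Iso.inv_hom_id_apply, map_zero] at h2)
    exact IsRegular.of_ne_zero h0
  refine Module.Flat.isSMulRegular_of_isRegular hr (M := M.presheaf.stalk x) ?_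
  show (f.stalkMap x).hom r • M.presheaf.germ U x hx s = (f.stalkMap x).hom r • (0 : M.presheaf.stalk x)
  rw [smul_zero]
  have h := congrArg (M.presheaf.germ U x hx) hs
  rw [tMap_app, QCoh.germ_smul', map_zero] at h
  refine Eq.trans ?_ h
  congr 1
  rw [tSec, X.presheaf.germ_res_apply]
  exact Scheme.Hom.germ_stalkMap_apply f ⊤ x trivial _

variable {I : X.Modules} {G : Xs.Modules} (π : (Scheme.Modules.pullback i).obj I ⟶ G)

/-- The map defining the modification. -/
def qMap : I ⟶ (Scheme.Modules.pushforward i).obj G :=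
  (Scheme.Modules.pullbackPushforwardAdjunction i).unit.app I ≫ (Scheme.Modules.pushforward i).map π

include hsq hϖ in
/-- The four-term exact sequence of a modification. -/
theorem exists_modification [IsNoetherian X] [IsClosedImmersion i] (hI : Coh.IsCoh I)
    (hfl : FlatMod.IsFlatOver f I) (hG : Coh.IsCoh G) [Epi π] :
    Coh.IsCoh (kernel (qMap i π)) ∧
    ∃ (δ : G ⟶ (Scheme.Modules.pullback i).obj (kernel (qMap i π))) (w : δ ≫ (Scheme.Modules.pullback i).map (kernel.ι (qMap i π)) = 0)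
      (w' : (Scheme.Modules.pullback i).map (kernel.ι (qMap i π)) ≫ π = 0),
      Mono δ ∧ (ShortComplex.mk δ _ w).Exact ∧
        (ShortComplex.mk ((Scheme.Modules.pullback i).map (kernel.ι (qMap i π))) π w').Exact ∧
        ∃ m : I ⟶ kernel (qMap i π), m ≫ kernel.ι (qMap i π) = tMap f I ϖ ∧
          qMap i π ≫ (Scheme.Modules.pushforward i).map δ =
            m ≫ (Scheme.Modules.pullbackPushforwardAdjunction i).unit.app (kernel (qMap i π)) := by
  letI PL := Scheme.Modules.pullback i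
  letI PS := Scheme.Modules.pushforward i
  haveI : PreservesFiniteColimits (Scheme.Modules.pushforward i) :=
    ⟨fun J _ _ => KFlatLib.preservesColimitsOfShape_push i J⟩
  let η := (Scheme.Modules.pullbackPushforwardAdjunction i).unit
  have hPG : Coh.IsCoh (PS.obj G) := QCoh.isCoh_pushforward_finite i hG
  let q := qMap i π
  have hK : Coh.IsCoh (kernel q) := QCoh.isCoh_kernel hI hPG q
  have hηs : ∀ {F : X.Modules}, Coh.IsQCoh F → ∀ U : X.affineOpens, Function.Surjective ((η.app F).app U.1) :=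
    fun hF U => (QCoh.unit_app_closed i hF U.2).1
  have hPI : Coh.IsQCoh (PS.obj (PL.obj I)) := QCoh.isQCoh_pushforward i (QCoh.isQCoh_pullback i hI.1)
  have hPK : Coh.IsQCoh (PS.obj (PL.obj (kernel q))) := QCoh.isQCoh_pushforward i (QCoh.isQCoh_pullback i hK.1)
  haveI : Epi (η.app I) := epi_of_affine _ hI.1 hPI fun U => hηs hI.1 U
  haveI : Epi (η.app (kernel q)) := epi_of_affine _ hK.1 hPK fun U => hηs hK.1 U
  haveI : PS.Faithful := ⟨fun {A B} {g h} e => KZ.ClosedDev.push_map_injective i g h e⟩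
  haveI : Epi q := epi_comp _ _
  have hqs : ∀ U : X.affineOpens, Function.Surjective (q.app U.1) := fun U =>
    QCoh.app_surjective_of_epi hI.1 hPG.1 q U.2
  have hzero : ∀ P : Xs.Modules, tMap f (PS.obj P) ϖ = 0 := tMap_push_eq_zero f i hsq ϖ hϖ
  have hm : tMap f I ϖ ≫ q = 0 := by rw [← tMap_comm f q ϖ, hzero, comp_zero]
  let m₀ : I ⟶ kernel q := kernel.lift q (tMap f I ϖ) hm
  have hιm : kernel.ι q ≫ m₀ = tMap f (kernel q) ϖ := by
    rw [← cancel_mono (kernel.ι q), Category.assoc, kernel.lift_ι, tMap_comm f (kernel.ι q) ϖ]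
  have hmη : ∀ F : X.Modules, tMap f F ϖ ≫ η.app F = 0 := fun F => by
    refine (tMap_comm f (η.app F) ϖ).symm.trans ?_
    erw [hzero]
    exact comp_zero
  let Sq : ShortComplex X.Modules := ShortComplex.mk (kernel.ι q) q (kernel.condition q)
  have hSq : Sq.ShortExact := { exact := ShortComplex.exact_kernel q }
  obtain ⟨δ₀, hδ₀⟩ : ∃ δ₀, q ≫ δ₀ = m₀ ≫ η.app (kernel q) :=
    ⟨Abelian.epiDesc q (m₀ ≫ η.app (kernel q)) (by rw [← Category.assoc, hιm, hmη]),
      Abelian.comp_epiDesc _ _ _⟩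
  obtain ⟨δ, hδ⟩ := (KZ.ClosedDev.push_map_bijective i (M := G) (N := PL.obj (kernel q)) hPG.1).2 δ₀
  have nat : ∀ {A B : X.Modules} (g : A ⟶ B), g ≫ η.app B = η.app A ≫ PS.map (PL.map g) := fun g => η.naturality g
  have w : δ ≫ PL.map (kernel.ι q) = 0 := by
    refine KZ.ClosedDev.push_map_injective i _ _ ?_
    rw [Functor.map_comp, hδ, Functor.map_zero, ← cancel_epi q, comp_zero, reassoc_of% hδ₀, ← nat,
      ← Category.assoc, kernel.lift_ι, hmη]
  have w' : PL.map (kernel.ι q) ≫ π = 0 := by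
    refine KZ.ClosedDev.push_map_injective i _ _ ?_
    rw [Functor.map_comp, Functor.map_zero, ← cancel_epi (η.app (kernel q)), comp_zero, ← reassoc_of% (nat (kernel.ι q))]
    exact kernel.condition q
  have sec : ∀ (U : X.affineOpens) (s : Γ(I, U.1)), (PS.map δ).app U.1 (q.app U.1 s) =
      (η.app (kernel q)).app U.1 (m₀.app U.1 s) := fun U s => by
    rw [hδ]; exact congr(($hδ₀).app U.1 s)
  have secι : ∀ (U : X.affineOpens) (z : Γ(kernel q, U.1)),
      (PS.map (PL.map (kernel.ι q))).app U.1 ((η.app (kernel q)).app U.1 z) =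
        (η.app I).app U.1 ((kernel.ι q).app U.1 z) := fun U z =>
    (congr(($(nat (kernel.ι q))).app U.1 z)).symm
  have secm : ∀ (U : X.affineOpens) (s : Γ(I, U.1)),
      (kernel.ι q).app U.1 (m₀.app U.1 s) = tSec f U.1 ϖ • s := fun U s =>
    congr(($(kernel.lift_ι q (tMap f I ϖ) hm)).app U.1 s)
  haveI : Mono (PS.map δ) := mono_of_affine _ fun U => by
    refine (injective_iff_map_eq_zero _).2 fun y hy => ?_
    obtain ⟨s, rfl⟩ := hqs U y
    rw [sec U s, unit_app_eq_zero_iff f i hsq ϖ hϖ hK.1 U] at hy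
    obtain ⟨z, hz⟩ := hy
    have h1 : tSec f U.1 ϖ • s = tSec f U.1 ϖ • (kernel.ι q).app U.1 z := by
      rw [← secm, ← hz, Scheme.Modules.Hom.app_smul]
    have h2 : s = (kernel.ι q).app U.1 z := tMap_injective f ϖ hϖ hI.1 hfl U.1 h1
    rw [h2]
    exact congr(($(kernel.condition q)).app U.1 z)
  refine ⟨hK, δ, w, w', PS.mono_of_mono_map inferInstance, ?_, ?_, m₀, kernel.lift_ι _ _ _, by rw [hδ]; exact hδ₀⟩
  · refine (ShortComplex.exact_map_iff_of_faithful _ PS).1 (exact_of_affine _ hPK hPI fun U y hy => ?_)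
    obtain ⟨z, rfl⟩ := hηs hK.1 U y
    have hy' : (η.app I).app U.1 ((kernel.ι q).app U.1 z) = 0 := (secι U z).symm.trans hy
    obtain ⟨s, hs⟩ := (unit_app_eq_zero_iff f i hsq ϖ hϖ hI.1 U _).1 hy'
    refine ⟨q.app U.1 s, (sec U s).trans (congrArg _ ?_)⟩
    exact QCoh.app_injective (kernel.ι q) U.1 ((secm U s).trans hs)
  · refine (ShortComplex.exact_map_iff_of_faithful _ PS).1 (exact_of_affine _ hPI hPG.1 fun U y hy => ?_)
    obtain ⟨x, rfl⟩ := hηs hI.1 U y
    have hy' : q.app U.1 x = 0 := hy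
    obtain ⟨z, hz⟩ := QCoh.exists_app_f_eq hSq U.1 x hy'
    exact ⟨(η.app (kernel q)).app U.1 z, (secι U z).trans (congrArg _ hz)⟩

end Groth.Agent.TFQuot7

end
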