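import Groth.Agent.TFQuot7.Modif
import Groth.Agent.TFQuot7.Reduce
import Groth.Agent.KFlatLib.Scheme.Pullback

/-! The `β` inequalities for elementary modifications. -/

set_option autoImplicit false
set_option maxHeartbeats 400000
set_option backward.isDefEq.respectTransparency false
set_option backward.isDefEq.respectTransparency.types false
set_option linter.unusedSectionVars false
set_option linter.style.haveILetI false

universe u

open CategoryTheory CategoryTheory.Limits AlgebraicGeometry TopologicalSpace Opposite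

noncomputable section

namespace Groth.Agent.TFQuot7

open Groth.Agent CycK

/-- The data of the rows on the closed fibre. -/
theorem exists_isModif {R : Type u} [CommRing R] [IsDomain R] [IsDiscreteValuationRing R] {X : Scheme.{u}}
    (f : X ⟶ Spec (CommRingCat.of R)) [IsProper f] {Xs : Scheme.{u}}
    [Xs.Over (Spec (CommRingCat.of (IsLocalRing.ResidueField R)))] (i : Xs ⟶ X)
    (hsq : IsPullback i (Xs ↘ Spec (CommRingCat.of (IsLocalRing.ResidueField R))) f
      (Spec.map (CommRingCat.ofHom (IsLocalRing.residue R))))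
    {I : X.Modules} (hIc : Coh.IsCoh I) (hIf : FlatMod.IsFlatOver f I) {GY : Xs.Modules}
    (hGYc : Coh.IsCoh GY) (πY : (Scheme.Modules.pullback i).obj I ⟶ GY) [Epi πY] {IY : X.Modules}
    (hIY : IY = kernel ((Scheme.Modules.pullbackPushforwardAdjunction i).unit.app I ≫
      (Scheme.Modules.pushforward i).map πY)) :
    IsProper (Xs ↘ Spec (CommRingCat.of (IsLocalRing.ResidueField R))) ∧
      ∃ (δ : GY ⟶ (Scheme.Modules.pullback i).obj IY)
        (γ : (Scheme.Modules.pullback i).obj IY ⟶ (Scheme.Modules.pullback i).obj I), IsModif πY δ γ := by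
  subst hIY
  obtain ⟨ϖ, hϖ⟩ := IsDiscreteValuationRing.exists_irreducible R
  have hϖ' := (IsDiscreteValuationRing.irreducible_iff_uniformizer ϖ).1 hϖ
  haveI := isClosedImmersion_i f i hsq ϖ hϖ'
  haveI : IsLocallyNoetherian X := LocallyOfFiniteType.isLocallyNoetherian f
  haveI : CompactSpace X := QuasiCompact.compactSpace_of_compactSpace f
  haveI : AlgebraicGeometry.IsNoetherian X := { }
  have hp : IsProper (Xs ↘ Spec (CommRingCat.of (IsLocalRing.ResidueField R))) :=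
    MorphismProperty.of_isPullback hsq inferInstance
  haveI := hp
  haveI := CurveCohLib.isNoetherian_of_proper (k := IsLocalRing.ResidueField R) (X := Xs)
  obtain ⟨hK, δ, w, w', hm, he1, he2, -⟩ := exists_modification f i hsq ϖ hϖ' πY hIc hIf hGYc
  exact ⟨hp, δ, _, ⟨w, w', hm, he1, he2, KZ.ClosedDev.isCoh_pull i hK⟩⟩

variable {k : Type u} [Field k] {X : Scheme.{u}} [X.Over (Spec (CommRingCat.of k))]
  [IsProper (X ↘ Spec (CommRingCat.of k))] [AlgebraicGeometry.IsReduced X]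

theorem quot_univ {M : X.Modules} (hM : TFOne.IsTF1 X M) : TFOne.IsQuotOn X M Set.univ M (𝟙 M) := by
  refine ⟨inferInstance, hM.1, hM.2.1, Set.Subset.antisymm (Set.subset_univ _)
    (isUC_univ.subset_of_generic (QCoh.isClosed_support_of_isFT hM.1.1 hM.1.2) fun y hy _ hs => ?_)⟩
  obtain ⟨v, hv⟩ := exists_ne_zero_of_rkOne hM.2.2 hy
  exact hv (hs.elim _ _)

variable (k) in
/-- `r χ(G) + deg(E|_T)`. -/
def beta (E : X.Modules) (r : ℕ) (T : Set X) (hT : IsClosed T) (G : X.Modules) : ℤ :=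
  (r : ℤ) * Curv2.euler k X G + degOn k E r T hT

theorem euler_quot_empty {M G : X.Modules} {π : M ⟶ G} (hG : TFOne.IsQuotOn X M ∅ G π) :
    Curv2.euler k X G = 0 := by
  haveI := CurveCohLib.isNoetherian_of_proper (k := k) (X := X)
  have hz : IsZero G := (quot_det hG).isZero fun y _ => quot_subsingleton hG (Set.notMem_empty y)
  rw [CurveCohLib.euler_eq_finrank_zero (k := k) hG.2.1 (fun y hy => absurd (hG.2.2.2.le hy) (Set.notMem_empty y)),
    CurveCohLib.finrank_HH_zero_eq_zero_of_isZero hz]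
  rfl

theorem beta_congr {M G G' : X.Modules} {π : M ⟶ G} {π' : M ⟶ G'} (hr : TFOne.IsRkOne X M) {T : Set X}
    (hG : TFOne.IsQuotOn X M T G π) (hG' : TFOne.IsQuotOn X M T G' π') :
    Curv2.euler k X G = Curv2.euler k X G' := by
  haveI := CurveCohLib.isNoetherian_of_proper (k := k) (X := X)
  obtain ⟨e, -⟩ := exists_iso_quot hr hG hG'
  exact CurveCohLib.euler_congr (k := k) e

section

variable {M N GY : X.Modules} {Y : Set X} {πY : M ⟶ GY} {δ : GY ⟶ N} {γ : N ⟶ M}
  (hmod : IsModif πY δ γ) (hM : TFOne.IsTF1 X M) (hGY : TFOne.IsQuotOn X M Y GY πY)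
  (hpure : ∀ C ∈ irreducibleComponents (X : Type u), topologicalKrullDim C = 1)
  {E : X.Modules} {r : ℕ} (hE : FlatMod.IsFinLocFreeOfRank r E)

include hM hE in
theorem beta_univ {d : ℤ} (hχ : Curv2.euler k X M = d) (hEd : Curv2.deg k X E r = -(r : ℤ) * d)
    {G : X.Modules} {π : M ⟶ G} (hG : TFOne.IsQuotOn X M Set.univ G π) :
    beta k E r Set.univ isClosed_univ G = 0 := by
  unfold beta
  rw [degOn_univ k hE, beta_congr hM.2.2 hG (quot_univ hM), hχ, hEd]
  ring

include hE in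
theorem beta_empty {G : X.Modules} {π : M ⟶ G} (hc : IsClosed (∅ : Set X)) (hG : TFOne.IsQuotOn X M ∅ G π) :
    beta k E r ∅ hc G = 0 := by
  unfold beta
  rw [degOn_empty k hE hc, euler_quot_empty hG]
  ring

include hM hE in
/-- For a semistable module every `β` is non-negative. -/
theorem beta_nonneg {d : ℤ} (hχ : Curv2.euler k X M = d) (hEd : Curv2.deg k X E r = -(r : ℤ) * d)
    (hss : ∀ (T : Set X) (hT : IsClosed T), VecSt.IsSubcurve X T → T ≠ Set.univ →
      ∀ (G : X.Modules) (π : M ⟶ G), TFOne.IsQuotOn X M T G π → 0 ≤ beta k E r T hT G)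
    {T : Set X} (hT : IsClosed T) (hTu : IsUC T) {G : X.Modules} {π : M ⟶ G} (hG : TFOne.IsQuotOn X M T G π) :
    0 ≤ beta k E r T hT G := by
  rcases T.eq_empty_or_nonempty with h0 | h0
  · subst h0; exact (beta_empty hE hT hG).ge
  by_cases hu : T = Set.univ
  · subst hu; exact (beta_univ hM hE hχ hEd hG).ge
  exact hss T hT (hTu.subcurve h0) hu G π hG

include hmod hM hGY hpure hE in
/-- The basic inequality. -/
theorem beta_modif_ge (hY : IsClosed Y) (hYu : IsUC Y) {Z W : Set X} (hZ : IsClosed Z) (hZu : IsUC Z)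
    (hWc : IsClosed W) (hW : W = ⋃₀ {C | C ∈ irreducibleComponents (X : Type u) ∧ C ⊆ Y ∩ Z})
    {GZ1 GW GU : X.Modules} {πZ1 : N ⟶ GZ1} {πW : M ⟶ GW} {πU : M ⟶ GU}
    (hGZ1 : TFOne.IsQuotOn X N Z GZ1 πZ1) (hGW : TFOne.IsQuotOn X M W GW πW)
    (hGU : TFOne.IsQuotOn X M (Y ∪ Z) GU πU) :
    beta k E r W hWc GW + beta k E r (Y ∪ Z) (hY.union hZ) GU ≤ beta k E r Z hZ GZ1 + beta k E r Y hY GY ∧
      (0 < r → (beta k E r W hWc GW + beta k E r (Y ∪ Z) (hY.union hZ) GU =
          beta k E r Z hZ GZ1 + beta k E r Y hY GY ↔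
        Curv2.euler k X GW + Curv2.euler k X GU = Curv2.euler k X GZ1 + Curv2.euler k X GY)) := by
  haveI := CurveCohLib.isNoetherian_of_proper (k := k) (X := X)
  have hWY : W ⊆ Y := hW ▸ Set.sUnion_subset fun C hC => hC.2.trans Set.inter_subset_left
  have hWZ : W ⊆ Z := hW ▸ Set.sUnion_subset fun C hC => hC.2.trans Set.inter_subset_right
  have hmem : ∀ y ∈ genericPoints X, y ∈ Y → y ∈ Z → y ∈ W := fun y hy h1 h2 => by
    rw [hW]; exact (mem_meet_iff hY hZ hy).2 ⟨h1, h2⟩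
  obtain ⟨h1, -⟩ := hmod.exists_defect hM hGY k hpure hWY hWZ hmem Set.subset_union_left Set.subset_union_right
    (fun y _ h => h) hGZ1 hGW hGU
  have hd := degOn_union_add_meet k hpure hE hY hZ hWc hYu hZu (hW ▸ isUC_sUnion _) hWY hWZ hmem
  unfold beta
  refine ⟨by nlinarith [mul_le_mul_of_nonneg_left h1 (Int.natCast_nonneg r)], fun hr => ?_⟩
  have hr' : (r : ℤ) ≠ 0 := by omega
  refine ⟨fun h => mul_left_cancel₀ hr' (by linarith), fun h => ?_⟩
  have := congrArg (fun t : ℤ => (r : ℤ) * t) h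
  simp only [mul_add] at this
  linarith

include hmod hM hGY hpure in
theorem euler_complement {Y' : Set X} (hY : IsClosed Y)
    (hY' : Y' = ⋃₀ {C | C ∈ irreducibleComponents (X : Type u) ∧ ¬ C ⊆ Y})
    {G2 : X.Modules} {π2 : N ⟶ G2} (hG2 : TFOne.IsQuotOn X N Y' G2 π2) :
    Curv2.euler k X G2 + Curv2.euler k X GY = Curv2.euler k X M := by
  haveI := CurveCohLib.isNoetherian_of_proper (k := k) (X := X)
  obtain ⟨G0, π0, hG0⟩ := exists_quotOn hM isUC_empty
  have hn : ∀ y ∈ genericPoints X, y ∈ Y' ↔ y ∉ Y := fun y hy => by rw [hY']; exact mem_compl_iff hY hy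
  obtain ⟨-, h2⟩ := hmod.exists_defect hM hGY k hpure (W := ∅) (U := Set.univ) (Set.empty_subset _) (Set.empty_subset _)
    (fun y hy h1 h2 => absurd h1 ((hn y hy).1 h2)) (Set.subset_univ _) (Set.subset_univ _)
    (fun y hy _ => (em (y ∈ Y)).imp_right (hn y hy).2) hG2 hG0 (quot_univ hM)
  have := h2 (Or.inl rfl)
  rw [euler_quot_empty hG0] at this
  omega

include hmod hM hGY hpure in
theorem isIso_lift_iff {Y' : Set X} (hY : IsClosed Y)
    (hY' : Y' = ⋃₀ {C | C ∈ irreducibleComponents (X : Type u) ∧ ¬ C ⊆ Y})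
    {G1 G2 : X.Modules} {π1 : N ⟶ G1} {π2 : N ⟶ G2} (hG1 : TFOne.IsQuotOn X N Y G1 π1)
    (hG2 : TFOne.IsQuotOn X N Y' G2 π2) :
    IsIso (biprod.lift π1 π2) ↔ Curv2.euler k X G1 = Curv2.euler k X GY := by
  haveI := CurveCohLib.isNoetherian_of_proper (k := k) (X := X)
  have hN := hmod.isTF1 hM hGY
  have hc := euler_complement (k := k) hmod hM hGY hpure hY hY' hG2
  have hn : ∀ y ∈ genericPoints X, y ∈ Y' ↔ y ∉ Y := fun y hy => by rw [hY']; exact mem_compl_iff hY hy
  haveI := hGY.1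
  have hNM := hmod.euler_eq hM hGY k hGY.2.1 hM.1
  haveI hmono : Mono (biprod.lift π1 π2) := mono_lift (det_of_isTF1 k hN) π1 π2 fun y hf v h1 h2 => by
    by_cases hy : y ∈ Y
    · exact (injective_iff_map_eq_zero _).1 (quot_injective hN.2.2 hG1 hf hy) v h1
    · exact (injective_iff_map_eq_zero _).1 (quot_injective hN.2.2 hG2 hf
        ((hn y (mem_genericPoints_iff.2 hf)).2 hy)) v h2
  have hB : Coh.IsCoh (G1 ⊞ G2 : X.Modules) := KZ.isCoh_biprod hG1.2.1 hG2.2.1
  have h0 : ∀ y ∈ CohB1.support (cokernel (biprod.lift π1 π2)), IsClosed ({y} : Set X) := fun y hy => by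
    refine isClosed_of_not_isField hpure fun hf => hy (subsingleton_cokernel _ fun w => ?_)
    have hg := mem_genericPoints_iff.2 hf
    by_cases hyY : y ∈ Y
    · obtain ⟨n, hn'⟩ := quot_surjective hG1 y (sl (biprod.fst : G1 ⊞ G2 ⟶ G1) y w)
      refine ⟨n, biprod_ext y ?_ ((quot_subsingleton hG2 fun h => (hn y hg).1 h hyY).elim _ _)⟩
      rw [sl_sl_comp (biprod.lift_fst _ _), hn']
    · obtain ⟨n, hn'⟩ := quot_surjective hG2 y (sl (biprod.snd : G1 ⊞ G2 ⟶ G2) y w)
      refine ⟨n, biprod_ext y ((quot_subsingleton hG1 hyY).elim _ _) ?_⟩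
      rw [sl_sl_comp (biprod.lift_snd _ _), hn']
  obtain ⟨-, hiff⟩ := CurveCohLib.euler_le_of_mono (k := k) (biprod.lift π1 π2) hN.1 hB h0
  have hs := euler_biprod k hG1.2.1 hG2.2.1
  rw [← hiff, hs, hNM]
  omega

include hmod hM hGY hpure hE in
/-- The minimal zero subcurve grows under modification. -/
theorem minZero_subset {d : ℤ} (hχ : Curv2.euler k X M = d) (hEd : Curv2.deg k X E r = -(r : ℤ) * d)
    (hss : ∀ (T : Set X) (hT : IsClosed T), VecSt.IsSubcurve X T → T ≠ Set.univ →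
      ∀ (G : X.Modules) (π : M ⟶ G), TFOne.IsQuotOn X M T G π → 0 ≤ beta k E r T hT G)
    (hY : IsClosed Y) (hYs : VecSt.IsSubcurve X Y) {W₀ : Set X} (hWc : W₀ ∈ irreducibleComponents (X : Type u))
    (hWY : W₀ ⊆ Y) (hY0 : beta k E r Y hY GY = 0)
    (hYmin : ∀ (T : Set X) (hT : IsClosed T), VecSt.IsSubcurve X T → W₀ ⊆ T → ∀ (G : X.Modules) (π : M ⟶ G),
      TFOne.IsQuotOn X M T G π → beta k E r T hT G = 0 → Y ⊆ T)
    {Z : Set X} (hZ : IsClosed Z) (hZs : VecSt.IsSubcurve X Z) (hWZ : W₀ ⊆ Z) {GZ1 : X.Modules} {πZ1 : N ⟶ GZ1}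
    (hGZ1 : TFOne.IsQuotOn X N Z GZ1 πZ1) (hZ0 : beta k E r Z hZ GZ1 = 0) : Y ⊆ Z := by
  haveI := CurveCohLib.isNoetherian_of_proper (k := k) (X := X)
  have hmu : IsUC (⋃₀ {C | C ∈ irreducibleComponents (X : Type u) ∧ C ⊆ Y ∩ Z}) := isUC_sUnion _
  obtain ⟨GW, πW, hGW⟩ := exists_quotOn hM hmu
  have hUu := (IsUC.of_subcurve hYs).union (IsUC.of_subcurve hZs)
  obtain ⟨GU, πU, hGU⟩ := exists_quotOn hM hUu
  obtain ⟨h, -⟩ := beta_modif_ge (k := k) hmod hM hGY hpure hE hY (IsUC.of_subcurve hYs) hZ (IsUC.of_subcurve hZs)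
    hmu.isClosed rfl hGZ1 hGW hGU
  have h1 := beta_nonneg hM hE hχ hEd hss hmu.isClosed hmu hGW
  have h2 := beta_nonneg hM hE hχ hEd hss (hY.union hZ) hUu hGU
  have hW0 : W₀ ⊆ ⋃₀ {C | C ∈ irreducibleComponents (X : Type u) ∧ C ⊆ Y ∩ Z} :=
    Set.subset_sUnion_of_mem ⟨hWc, Set.subset_inter hWY hWZ⟩
  exact (hYmin _ hmu.isClosed (hmu.subcurve (hWc.1.nonempty.mono hW0)) hW0 GW πW hGW (by omega)).trans
    (Set.sUnion_subset fun C hC => hC.2.trans Set.inter_subset_right)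

end

end Groth.Agent.TFQuot7

end
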