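import Groth.Agent.TFQuot7.Restrict

/-! When is an elementary modification semistable. -/

set_option autoImplicit false
set_option maxHeartbeats 400000
set_option backward.isDefEq.respectTransparency false
set_option backward.isDefEq.respectTransparency.types false
set_option linter.unusedSectionVars false
set_option linter.style.haveILetI false

universe u

open CategoryTheory CategoryTheory.Limits AlgebraicGeometry TopologicalSpace Opposite

noncomputable section

namespace Groth.Agent.TFQuot7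

open Groth.Agent CycK

variable {k : Type u} [Field k] {X : Scheme.{u}} [X.Over (Spec (CommRingCat.of k))]
  [IsProper (X ↘ Spec (CommRingCat.of k))] [AlgebraicGeometry.IsReduced X]

theorem degOn_congr {E : X.Modules} {r : ℕ} {A B : Set X} (h : A = B) (hA : IsClosed A) (hB : IsClosed B) :
    degOn k E r A hA = degOn k E r B hB := by subst h; rfl

variable {M N GY : X.Modules} {Y : Set X} {πY : M ⟶ GY} {δ : GY ⟶ N} {γ : N ⟶ M}
  (hmod : IsModif πY δ γ) (hM : TFOne.IsTF1 X M) (hGY : TFOne.IsQuotOn X M Y GY πY)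
  (hpure : ∀ C ∈ irreducibleComponents (X : Type u), topologicalKrullDim C = 1)
  {E : X.Modules} {r : ℕ} (hE : FlatMod.IsFinLocFreeOfRank r E)
  {d : ℤ} (hχ : Curv2.euler k X M = d) (hEd : Curv2.deg k X E r = -(r : ℤ) * d)
  (hss : ∀ (T : Set X) (hT : IsClosed T), VecSt.IsSubcurve X T → T ≠ Set.univ →
    ∀ (G : X.Modules) (π : M ⟶ G), TFOne.IsQuotOn X M T G π → 0 ≤ beta k E r T hT G)

include hmod hM hGY hpure hE hχ hEd hss in
theorem beta_eq_zero_of_modif (hY : IsClosed Y) (hYs : VecSt.IsSubcurve X Y)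
    (hN : ∀ (T : Set X) (hT : IsClosed T), VecSt.IsSubcurve X T → T ≠ Set.univ →
      ∀ (G : X.Modules) (π : N ⟶ G), TFOne.IsQuotOn X N T G π → 0 ≤ beta k E r T hT G) :
    beta k E r Y hY GY = 0 := by
  haveI := CurveCohLib.isNoetherian_of_proper (k := k) (X := X)
  have hYu := IsUC.of_subcurve hYs
  by_cases hu : Y = Set.univ
  · subst hu; exact beta_univ hM hE hχ hEd hGY
  have hge := beta_nonneg hM hE hχ hEd hss hY hYu hGY
  let Y' : Set X := ⋃₀ {C | C ∈ irreducibleComponents (X : Type u) ∧ ¬ C ⊆ Y}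
  have hY'u : IsUC Y' := isUC_sUnion _
  obtain ⟨x, hx⟩ := (Set.ne_univ_iff_exists_notMem Y).1 hu
  have hY's : VecSt.IsSubcurve X Y' := hY'u.subcurve ⟨x, _, ⟨irreducibleComponent_mem_irreducibleComponents x,
    fun hs => hx (hs mem_irreducibleComponent)⟩, mem_irreducibleComponent⟩
  have hn : ∀ y ∈ genericPoints X, (y ∈ Y' ↔ y ∉ Y) := fun y hy => mem_compl_iff hY hy
  obtain ⟨η, hη, hηY⟩ := exists_generic_of_subcurve hYs
  obtain ⟨G2, π2, hG2⟩ := exists_quotOn (hmod.isTF1 hM hGY) hY'u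
  have h2 := hN Y' hY'u.isClosed hY's (fun h => (hn η hη).1 (h.ge trivial) hηY) G2 π2 hG2
  have hc := euler_complement (k := k) hmod hM hGY hpure hY rfl hG2
  have hcov : Y ∪ Y' = Set.univ := (hYu.union hY'u).ext isUC_univ fun y hy =>
    ⟨fun _ => trivial, fun _ => (em (y ∈ Y)).imp_right (hn y hy).2⟩
  have hd := degOn_union_add_meet k hpure hE hY hY'u.isClosed isClosed_empty hYu hY'u isUC_empty
    (Set.empty_subset _) (Set.empty_subset _) (fun y hy h1 h2' => absurd h1 ((hn y hy).1 h2'))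
  rw [degOn_congr hcov _ isClosed_univ, degOn_univ k hE, degOn_empty k hE, hEd, add_zero] at hd
  unfold beta at h2 hge ⊢
  have hc' := congrArg (fun t : ℤ => (r : ℤ) * t) (hc.trans hχ)
  simp only [mul_add] at hc'
  linarith

include hmod hM hGY hpure hE hχ hEd hss in
theorem semistable_of_beta_eq_zero (hY : IsClosed Y) (hYs : VecSt.IsSubcurve X Y)
    (h0 : beta k E r Y hY GY = 0) {T : Set X} (hT : IsClosed T) (hTs : VecSt.IsSubcurve X T)
    {G : X.Modules} {π : N ⟶ G} (hG : TFOne.IsQuotOn X N T G π) : 0 ≤ beta k E r T hT G := by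
  haveI := CurveCohLib.isNoetherian_of_proper (k := k) (X := X)
  have hYu := IsUC.of_subcurve hYs
  have hTu := IsUC.of_subcurve hTs
  have hmu : IsUC (⋃₀ {C | C ∈ irreducibleComponents (X : Type u) ∧ C ⊆ Y ∩ T}) := isUC_sUnion _
  obtain ⟨GW, πW, hGW⟩ := exists_quotOn hM hmu
  obtain ⟨GU, πU, hGU⟩ := exists_quotOn hM (hYu.union hTu)
  obtain ⟨h, -⟩ := beta_modif_ge (k := k) hmod hM hGY hpure hE hY hYu hT hTu hmu.isClosed rfl hG hGW hGU
  have h1 := beta_nonneg hM hE hχ hEd hss hmu.isClosed hmu hGW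
  have h2 := beta_nonneg hM hE hχ hEd hss (hY.union hT) (hYu.union hTu) hGU
  omega

include hM hGY hE hχ hEd hss in
theorem restrict_semistable (hY : IsClosed Y) (hYs : VecSt.IsSubcurve X Y) {A : Set (VecSt.subsch X Y hY)}
    (hA : IsClosed A) (hAs : VecSt.IsSubcurve (VecSt.subsch X Y hY) A) {G : (VecSt.subsch X Y hY).Modules}
    {π : (Scheme.Modules.pullback (VecSt.subschι X Y hY)).obj GY ⟶ G}
    (hG : TFOne.IsQuotOn (VecSt.subsch X Y hY) ((Scheme.Modules.pullback (VecSt.subschι X Y hY)).obj GY) A G π) :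
    letI : (VecSt.subsch X Y hY).Over (Spec (CommRingCat.of k)) :=
      ⟨VecSt.subschι X Y hY ≫ (X ↘ Spec (CommRingCat.of k))⟩
    0 ≤ beta k ((Scheme.Modules.pullback (VecSt.subschι X Y hY)).obj E) r A hA G := by
  haveI := CurveCohLib.isNoetherian_of_proper (k := k) (X := X)
  letI : (VecSt.subsch X Y hY).Over (Spec (CommRingCat.of k)) :=
    ⟨VecSt.subschι X Y hY ≫ (X ↘ Spec (CommRingCat.of k))⟩
  obtain ⟨e⟩ := exists_iso_push hY hGY
  have hcl : IsClosed (VecSt.subschι X Y hY '' A) := (VecSt.subschι X Y hY).isClosedEmbedding.isClosedMap _ hA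
  rw [beta_restrict hY k hYs hE hA (IsUC.of_subcurve hAs) hG.2.1.1 hcl]
  exact beta_nonneg hM hE hχ hEd hss hcl (image_isUC hY hYs (IsUC.of_subcurve hAs))
    (isQuotOn_push hY hYs hGY e (QCoh.isQCoh_pullback _ hGY.2.1.1) (IsUC.of_subcurve hAs) hG)

end Groth.Agent.TFQuot7

end
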