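import Groth.Agent.TFQuot7.Chain
import Groth.Agent.TFQuot7.Rows
import Groth.Agent.AmpleVan.NakayamaFibre

/-! The limit of a sequence of modifications that decompose. -/

set_option autoImplicit false
set_option maxHeartbeats 400000
set_option backward.isDefEq.respectTransparency false
set_option backward.isDefEq.respectTransparency.types false
set_option linter.unusedSectionVars false
set_option linter.style.haveILetI false

universe u

open CategoryTheory CategoryTheory.Limits AlgebraicGeometry TopologicalSpace Opposite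

noncomputable section

namespace Groth.Agent.TFQuot7

open Groth.Agent CycK

section curve

variable {k : Type u} [Field k] {X : Scheme.{u}} [X.Over (Spec (CommRingCat.of k))]
  [IsProper (X ↘ Spec (CommRingCat.of k))] [AlgebraicGeometry.IsReduced X]
  {M N GY : X.Modules} {Y : Set X} {πY : M ⟶ GY} {δ : GY ⟶ N} {γ : N ⟶ M}
  (hmod : IsModif πY δ γ) (hM : TFOne.IsTF1 X M) (hGY : TFOne.IsQuotOn X M Y GY πY)
  (hpure : ∀ C ∈ irreducibleComponents (X : Type u), topologicalKrullDim C = 1)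

include k hmod hM hGY hpure in
theorem isIso_comp_of_decomp {Y' : Set X} (hY : IsClosed Y)
    (hY' : Y' = ⋃₀ {C | C ∈ irreducibleComponents (X : Type u) ∧ ¬ C ⊆ Y})
    {G1 G2 : X.Modules} {π1 : N ⟶ G1} {π2 : N ⟶ G2} (hG1 : TFOne.IsQuotOn X N Y G1 π1)
    (hG2 : TFOne.IsQuotOn X N Y' G2 π2) (hdec : IsIso (biprod.lift π1 π2)) : IsIso (δ ≫ π1) := by
  haveI := CurveCohLib.isNoetherian_of_proper (k := k) (X := X)
  have hN := hmod.isTF1 hM hGY
  haveI := hmod.mono
  have he := (isIso_lift_iff (k := k) hmod hM hGY hpure hY hY' hG1 hG2).1 hdec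
  haveI : Mono (δ ≫ π1) := by
    refine Preadditive.mono_of_kernel_zero ((quot_det hGY).hom_eq_zero _ fun y hf v => ?_)
    by_cases hy : y ∈ Y
    · refine (injective_iff_map_eq_zero _).1 (sl_injective δ y) _
        ((injective_iff_map_eq_zero _).1 (quot_injective hN.2.2 hG1 hf hy) _ ?_)
      rw [← sl_comp_apply, ← sl_comp_apply, kernel.condition, sl_zero]; rfl
    · exact (quot_subsingleton hGY hy).elim _ _
  have h0 : ∀ y ∈ CohB1.support (cokernel (δ ≫ π1)), IsClosed ({y} : Set X) := fun y hy => by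
    refine isClosed_of_not_isField hpure fun hf => hy (subsingleton_cokernel _ fun w => ?_)
    by_cases hyY : y ∈ Y
    · obtain ⟨n, hn⟩ := quot_surjective hG1 y w
      have hγ : sl γ y n = 0 := (injective_iff_map_eq_zero _).1 (quot_injective hM.2.2 hGY hf hyY) _ (by
        rw [← sl_comp_apply, hmod.w', sl_zero]; rfl)
      have hex := (KFlatLib.exact_iff_stalk (ShortComplex.mk δ γ hmod.w)).1 hmod.exact₁ y
      rw [ShortComplex.ShortExact.moduleCat_exact_iff_function_exact] at hex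
      obtain ⟨v, hv⟩ := (hex n).1 hγ
      exact ⟨v, by rw [sl_comp_apply]; exact (congrArg (sl π1 y) hv).trans hn⟩
    · exact ⟨0, (quot_subsingleton hG1 hyY).elim _ _⟩
  exact (CurveCohLib.euler_le_of_mono (k := k) (δ ≫ π1) hGY.2.1 hG1.2.1 h0).2.1 he.symm

end curve

section dvr

variable {R : Type u} [CommRing R] [IsDomain R] [IsDiscreteValuationRing R] {X : Scheme.{u}}
  (f : X ⟶ Spec (CommRingCat.of R)) [IsProper f] {Xs : Scheme.{u}}
  [Xs.Over (Spec (CommRingCat.of (IsLocalRing.ResidueField R)))] (i : Xs ⟶ X)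
  (hsq : IsPullback i (Xs ↘ Spec (CommRingCat.of (IsLocalRing.ResidueField R))) f
    (Spec.map (CommRingCat.ofHom (IsLocalRing.residue R))))
  (ϖ : R) (hϖ : IsLocalRing.maximalIdeal R = Ideal.span {ϖ})

include hsq hϖ in
theorem exists_step {I J : X.Modules} {G : Xs.Modules} (π : (Scheme.Modules.pullback i).obj I ⟶ G) [Epi π]
    (hI : Coh.IsCoh I) (hfl : FlatMod.IsFlatOver f I) (hG : Coh.IsCoh G) (hJ : J = kernel (qMap i π)) :
    Coh.IsCoh J ∧ FlatMod.IsFlatOver f J ∧ Epi (qMap i π) ∧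
    ∃ (ι : J ⟶ I) (m : I ⟶ J) (δ : G ⟶ (Scheme.Modules.pullback i).obj J)
      (γ : (Scheme.Modules.pullback i).obj J ⟶ (Scheme.Modules.pullback i).obj I),
      Mono ι ∧ ι ≫ qMap i π = 0 ∧ (∀ {A : X.Modules} (a : A ⟶ I), a ≫ qMap i π = 0 → ∃ b, b ≫ ι = a) ∧
      m ≫ ι = tMap f I ϖ ∧ IsModif π δ γ ∧
      qMap i π ≫ (Scheme.Modules.pushforward i).map δ =
        m ≫ (Scheme.Modules.pullbackPushforwardAdjunction i).unit.app J := by
  subst hJ
  haveI := isClosedImmersion_i f i hsq ϖ hϖ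
  haveI : IsLocallyNoetherian X := LocallyOfFiniteType.isLocallyNoetherian f
  haveI : CompactSpace X := QuasiCompact.compactSpace_of_compactSpace f
  haveI : AlgebraicGeometry.IsNoetherian X := { }
  haveI : PreservesFiniteColimits (Scheme.Modules.pushforward i) :=
    ⟨fun J _ _ => KFlatLib.preservesColimitsOfShape_push i J⟩
  haveI : Epi ((Scheme.Modules.pullbackPushforwardAdjunction i).unit.app I) :=
    epi_of_affine _ hI.1 (QCoh.isQCoh_pushforward i (QCoh.isQCoh_pullback i hI.1))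
      fun U => (QCoh.unit_app_closed i hI.1 U.2).1
  obtain ⟨hK, δ, w, w', hm, he1, he2, m, hm1, hm2⟩ := exists_modification f i hsq ϖ hϖ π hI hfl hG
  refine ⟨hK, isFlatOver_sub f ϖ hϖ (kernel.ι (qMap i π)) hI.1 hfl, epi_comp _ _, kernel.ι _, m, δ, _,
    inferInstance, kernel.condition _, fun a ha => ⟨kernel.lift _ a ha, kernel.lift_ι _ _ _⟩, hm1,
    ⟨w, w', hm, he1, he2, KZ.ClosedDev.isCoh_pull i hK⟩, hm2⟩

variable [AlgebraicGeometry.IsReduced Xs]
  (hpure : ∀ C ∈ irreducibleComponents (Xs : Type u), topologicalKrullDim C = 1)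
  (In : ℕ → X.Modules) (hIc : Coh.IsCoh (In 0)) (hIf : FlatMod.IsFlatOver f (In 0))
  (hIs : TFOne.IsTF1 Xs ((Scheme.Modules.pullback i).obj (In 0)))
  (Y : Set Xs) (hY : IsClosed Y) (Y' : Set Xs)
  (hY' : Y' = ⋃₀ {C | C ∈ irreducibleComponents (Xs : Type u) ∧ ¬ C ⊆ Y})
  (G G' : ℕ → Xs.Modules) (π : ∀ n, (Scheme.Modules.pullback i).obj (In n) ⟶ G n)
  (π' : ∀ n, (Scheme.Modules.pullback i).obj (In n) ⟶ G' n)
  (hG : ∀ n, TFOne.IsQuotOn Xs ((Scheme.Modules.pullback i).obj (In n)) Y (G n) (π n))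
  (hG' : ∀ n, TFOne.IsQuotOn Xs ((Scheme.Modules.pullback i).obj (In n)) Y' (G' n) (π' n))
  (hstep : ∀ n, In (n + 1) = kernel (qMap i (π n)))

include hsq hϖ hIc hIf hIs hG hstep in
theorem step_props : ∀ n, Coh.IsCoh (In n) ∧ FlatMod.IsFlatOver f (In n) ∧
    TFOne.IsTF1 Xs ((Scheme.Modules.pullback i).obj (In n))
  | 0 => ⟨hIc, hIf, hIs⟩
  | n + 1 => by
    obtain ⟨hc, hf, hs⟩ := step_props n
    haveI := (hG n).1
    obtain ⟨h1, h2, -, _, _, _, _, -, -, -, -, hmod, -⟩ := exists_step f i hsq ϖ hϖ (π n) hc hf (hG n).2.1 (hstep n)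
    haveI : IsProper (Xs ↘ Spec (CommRingCat.of (IsLocalRing.ResidueField R))) :=
      MorphismProperty.of_isPullback hsq inferInstance
    haveI := CurveCohLib.isNoetherian_of_proper (k := IsLocalRing.ResidueField R) (X := Xs)
    exact ⟨h1, h2, hmod.isTF1 hs (hG n)⟩

include hsq hϖ hpure hIc hIf hIs hY hY' hG hG' hstep in
theorem exists_chain (hdec : ∀ n, IsIso (biprod.lift (π n) (π' n))) :
    ∃ C : Chain f ϖ, ∃ (e : C.I 0 ≅ In 0) (e' : C.P 0 ≅ (Scheme.Modules.pushforward i).obj (G 0)),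
      e.inv ≫ C.q 0 ≫ e'.hom = qMap i (π 0) := by
  haveI : IsProper (Xs ↘ Spec (CommRingCat.of (IsLocalRing.ResidueField R))) :=
    MorphismProperty.of_isPullback hsq inferInstance
  have hp := step_props f i hsq ϖ hϖ In hIc hIf hIs Y G π hG hstep
  have h : ∀ n, _ := fun n =>
    haveI := (hG n).1
    exists_step f i hsq ϖ hϖ (π n) (hp n).1 (hp n).2.1 (hG n).2.1 (hstep n)
  choose hc hf hepi ι m δ γ hmono hw hlift hmι hmod hq using h
  haveI : ∀ n, IsIso (δ n ≫ π (n + 1)) := fun n =>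
    isIso_comp_of_decomp (k := IsLocalRing.ResidueField R) (hmod n) (hp n).2.2 (hG n) hpure hY hY'
      (hG (n + 1)) (hG' (n + 1)) (hdec (n + 1))
  let C : Chain f ϖ :=
    { I := In
      P := fun n => (Scheme.Modules.pushforward i).obj (G n)
      ι := ι
      q := fun n => qMap i (π n)
      m := m
      v := fun n => (Scheme.Modules.pushforward i).mapIso (asIso (δ n ≫ π (n + 1)))
      monoι := hmono
      epiq := hepi
      w := hw
      lift := fun n {A} a ha => hlift n a ha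
      mι := hmι
      vq := fun n => by
        rw [Functor.mapIso_hom, asIso_hom, Functor.map_comp, reassoc_of% (hq n)]
        rfl
      coh := fun n => (hp n).1 }
  exact ⟨C, Iso.refl _, Iso.refl _, by simp [C]⟩

include hsq hϖ hpure hIc hIf hIs hY hY' hG hG' hstep in
theorem exists_limit_quot [IsAdicComplete (IsLocalRing.maximalIdeal R) R]
    (hdec : ∀ n, IsIso (biprod.lift (π n) (π' n))) :
    ∃ (F : X.Modules) (p : In 0 ⟶ F), Epi p ∧ FlatMod.IsFlatOver f F ∧
      ∃ e : (Scheme.Modules.pullback i).obj F ≅ G 0, (Scheme.Modules.pullback i).map p ≫ e.hom = π 0 := by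
  haveI := isClosedImmersion_i f i hsq ϖ hϖ
  haveI : IsAdicComplete (Ideal.span {ϖ}) R := hϖ ▸ ‹IsAdicComplete (IsLocalRing.maximalIdeal R) R›
  obtain ⟨C, e0, e0', hq0⟩ :=
    exists_chain f i hsq ϖ hϖ hpure In hIc hIf hIs Y hY Y' hY' G G' π π' hG hG' hstep hdec
  haveI := C.epiq 0
  obtain ⟨F, p₀, τ₀, hF, hmono, hpτ, hτ0, huniv⟩ := C.exists_limit
  let adj := Scheme.Modules.pullbackPushforwardAdjunction i
  let τ : F ⟶ (Scheme.Modules.pushforward i).obj (G 0) := τ₀ ≫ e0'.hom
  let p : In 0 ⟶ F := e0.inv ≫ p₀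
  have hpτ' : p ≫ τ = qMap i (π 0) := by
    show (e0.inv ≫ p₀) ≫ τ₀ ≫ e0'.hom = _
    rw [Category.assoc, reassoc_of% hpτ, hq0]
  haveI : Epi τ₀ := epi_of_epi_fac hpτ
  haveI : Epi τ := epi_comp _ _
  let th : (Scheme.Modules.pullback i).obj F ⟶ G 0 := (adj.homEquiv F (G 0)).symm τ
  have hth : adj.unit.app F ≫ (Scheme.Modules.pushforward i).map th = τ :=
    ((adj.homEquiv_unit F (G 0) th).symm).trans (Equiv.apply_symm_apply _ _)
  haveI : IsLocallyNoetherian X := LocallyOfFiniteType.isLocallyNoetherian f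
  haveI : CompactSpace X := QuasiCompact.compactSpace_of_compactSpace f
  haveI : Epi (adj.unit.app F) := epi_of_affine _ hF.1 (QCoh.isQCoh_pushforward i (QCoh.isQCoh_pullback i hF.1))
    fun U => (QCoh.unit_app_closed i hF.1 U.2).1
  have hη : tMap f F ϖ ≫ adj.unit.app F = 0 := by
    refine (tMap_comm f (adj.unit.app F) ϖ).symm.trans ?_
    erw [tMap_push_eq_zero f i hsq ϖ hϖ]
    exact comp_zero
  obtain ⟨g₀, hg₀⟩ := huniv (adj.unit.app F) hη
  let g : (Scheme.Modules.pushforward i).obj (G 0) ⟶ (Scheme.Modules.pushforward i).obj ((Scheme.Modules.pullback i).obj F) :=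
    e0'.inv ≫ g₀
  have hg : τ ≫ g = adj.unit.app F := by
    show (τ₀ ≫ e0'.hom) ≫ e0'.inv ≫ g₀ = _
    rw [Category.assoc, Iso.hom_inv_id_assoc]; exact hg₀
  obtain ⟨h, hh⟩ := (KZ.ClosedDev.push_map_bijective i (M := G 0) (N := (Scheme.Modules.pullback i).obj F)
    (QCoh.isCoh_pushforward_finite i (hG 0).2.1).1).2 g
  let e : (Scheme.Modules.pullback i).obj F ≅ G 0 :=
    { hom := th
      inv := h
      hom_inv_id := KZ.ClosedDev.push_map_injective i _ _ (by
        rw [← cancel_epi (adj.unit.app F), Functor.map_comp, reassoc_of% hth, hh, hg,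
          (Scheme.Modules.pushforward i).map_id]
        exact (Category.comp_id _).symm)
      inv_hom_id := KZ.ClosedDev.push_map_injective i _ _ (by
        rw [← cancel_epi τ, Functor.map_comp, hh, reassoc_of% hg, hth, (Scheme.Modules.pushforward i).map_id,
          Category.comp_id]) }
  have he : (Scheme.Modules.pullback i).map p ≫ e.hom = π 0 := by
    show (Scheme.Modules.pullback i).map p ≫ (adj.homEquiv F (G 0)).symm τ = π 0
    rw [← adj.homEquiv_naturality_left_symm, hpτ', Equiv.symm_apply_eq, adj.homEquiv_unit]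
    rfl
  letI : X.Over (Spec (CommRingCat.of R)) := ⟨f⟩
  haveI : IsProper (X ↘ Spec (CommRingCat.of R)) := ‹IsProper f›
  haveI := (hG 0).1
  haveI : Epi ((Scheme.Modules.pullback i).map p) := by
    rw [show (Scheme.Modules.pullback i).map p = π 0 ≫ e.inv by rw [← he, Category.assoc, Iso.hom_inv_id,
      Category.comp_id]]
    haveI : IsIso e.inv := e.isIso_inv; exact epi_comp _ _
  have hep : Epi p := AmpleVan.epi_of_fibre (A := R) (q := Xs ↘ Spec (CommRingCat.of (IsLocalRing.ResidueField R)))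
    hsq hIc.1 hF p
  exact ⟨F, p, hep, isFlatOver_of_mono_tMap f ϖ hϖ, e, he⟩

end dvr

end Groth.Agent.TFQuot7

end
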