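import Groth.Agent.TFQuot7.FlatDvr
import Groth.Agent.S0004
import Groth.Agent.QCoh.Support

/-! Chains of elementary modifications over a complete discrete valuation ring and their formal limits. -/

set_option autoImplicit false
set_option maxHeartbeats 400000
set_option backward.isDefEq.respectTransparency false
set_option backward.isDefEq.respectTransparency.types false
set_option linter.unusedSectionVars false
set_option linter.style.haveILetI false

universe u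

open CategoryTheory CategoryTheory.Limits AlgebraicGeometry TopologicalSpace Opposite

noncomputable section

namespace Groth.Agent.TFQuot7

open Groth.Agent CycK

variable {X : Scheme.{u}} {R : Type u} [CommRing R] (f : X ⟶ Spec (CommRingCat.of R))

theorem tMap_mul (M : X.Modules) (a b : R) : tMap f M (a * b) = tMap f M a ≫ tMap f M b := by
  refine Scheme.Modules.hom_ext _ _ fun U => ?_
  ext s
  show tSec f U (a * b) • s = tSec f U b • (tSec f U a • s)
  rw [← mul_smul, tSec, tSec, tSec, map_mul, map_mul, mul_comm]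

theorem tMap_one (M : X.Modules) : tMap f M 1 = 𝟙 M := by
  refine Scheme.Modules.hom_ext _ _ fun U => ?_
  ext s
  show tSec f U 1 • s = s
  rw [tSec, map_one, map_one, one_smul]

/-- A chain of modifications by `ϖ` with all quotients identified. -/
structure Chain (ϖ : R) where
  /-- the modules -/
  I : ℕ → X.Modules
  /-- the quotients -/
  P : ℕ → X.Modules
  /-- the inclusions -/
  ι : ∀ n, I (n + 1) ⟶ I n
  /-- the quotient maps -/
  q : ∀ n, I n ⟶ P n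
  /-- multiplication by the uniformizer -/
  m : ∀ n, I n ⟶ I (n + 1)
  /-- the identification of successive quotients -/
  v : ∀ n, P n ≅ P (n + 1)
  monoι : ∀ n, Mono (ι n)
  epiq : ∀ n, Epi (q n)
  w : ∀ n, ι n ≫ q n = 0
  lift : ∀ n {A : X.Modules} (a : A ⟶ I n), a ≫ q n = 0 → ∃ b, b ≫ ι n = a
  mι : ∀ n, m n ≫ ι n = tMap f (I n) ϖ
  vq : ∀ n, q n ≫ (v n).hom = m n ≫ q (n + 1)
  coh : ∀ n, Coh.IsCoh (I n)

variable [IsDomain R] [IsDiscreteValuationRing R] {f} {ϖ : R} (C : Chain f ϖ)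

namespace Chain

theorem ιm (n : ℕ) : C.ι n ≫ C.m n = tMap f (C.I (n + 1)) ϖ := by
  haveI := C.monoι n
  rw [← cancel_mono (C.ι n), Category.assoc, C.mι, tMap_comm]

/-- The composite inclusion. -/
def j : ∀ n, C.I n ⟶ C.I 0
  | 0 => 𝟙 _
  | n + 1 => C.ι n ≫ j n

instance mono_j : ∀ n, Mono (C.j n)
  | 0 => by unfold j; infer_instance
  | n + 1 => by
    haveI := C.monoι n
    haveI := mono_j n
    unfold j; infer_instance

/-- Multiplication by the power of the uniformizer. -/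
def mp : ∀ n, C.I 0 ⟶ C.I n
  | 0 => 𝟙 _
  | n + 1 => mp n ≫ C.m n

theorem mp_j : ∀ n, C.mp n ≫ C.j n = tMap f (C.I 0) (ϖ ^ n)
  | 0 => by rw [pow_zero, tMap_one]; exact Category.comp_id _
  | n + 1 => by
    show (C.mp n ≫ C.m n) ≫ C.ι n ≫ C.j n = _
    rw [Category.assoc, reassoc_of% (C.mι n), ← tMap_comm, reassoc_of% (mp_j n), ← tMap_mul, ← pow_succ]

/-- The identification of the first quotient with the `n`-th. -/
def V : ∀ n, C.P 0 ≅ C.P n
  | 0 => Iso.refl _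
  | n + 1 => V n ≪≫ C.v n

theorem q_V : ∀ n, C.q 0 ≫ (C.V n).hom = C.mp n ≫ C.q n
  | 0 => by simp [V, mp]
  | n + 1 => by
    show C.q 0 ≫ (C.V n).hom ≫ (C.v n).hom = (C.mp n ≫ C.m n) ≫ C.q (n + 1)
    rw [reassoc_of% (q_V n), C.vq, Category.assoc]

/-- The quotients of the first module. -/
def M (n : ℕ) : X.Modules := cokernel (C.j n)

/-- The projection. -/
def π (n : ℕ) : C.I 0 ⟶ C.M n := cokernel.π (C.j n)

theorem j_π (n : ℕ) : C.j n ≫ C.π n = 0 := cokernel.condition _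

instance epi_π (n : ℕ) : Epi (C.π n) := inferInstanceAs (Epi (cokernel.π (C.j n)))

/-- The transition. -/
def T (n : ℕ) : C.M (n + 1) ⟶ C.M n :=
  cokernel.desc _ (C.π n) (by show (C.ι n ≫ C.j n) ≫ C.π n = 0; rw [Category.assoc, C.j_π, comp_zero])

theorem π_T (n : ℕ) : C.π (n + 1) ≫ C.T n = C.π n := cokernel.π_desc _ _ _

theorem tMap_M (n : ℕ) : tMap f (C.M n) (ϖ ^ n) = 0 := by
  rw [← cancel_epi (C.π n), comp_zero, tMap_comm, ← C.mp_j, Category.assoc, C.j_π, comp_zero]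

theorem coh_M [IsNoetherian X] (n : ℕ) : Coh.IsCoh (C.M n) :=
  QCoh.isCoh_cokernel (C.coh n).1 (C.coh 0) (C.j n)

/-- If `ϖ a` lies in the `n+1`-st module then `a` lies in the `n`-th. -/
theorem factor_j : ∀ (n : ℕ) {A : X.Modules} (a : A ⟶ C.I 0),
    (∃ c, c ≫ C.j (n + 1) = a ≫ tMap f (C.I 0) ϖ) → ∃ b, b ≫ C.j n = a
  | 0, _, a, _ => ⟨a, Category.comp_id a⟩
  | n + 1, A, a, ⟨c, hc⟩ => by
    obtain ⟨b, hb⟩ := factor_j n a ⟨c ≫ C.ι (n + 1), by rw [Category.assoc]; exact hc⟩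
    have h1 : b ≫ C.m n = c ≫ C.ι (n + 1) := by
      rw [← cancel_mono (C.j (n + 1)), Category.assoc, Category.assoc]
      refine Eq.trans ?_ hc.symm
      show b ≫ C.m n ≫ C.ι n ≫ C.j n = _
      rw [reassoc_of% (C.mι n), ← tMap_comm, reassoc_of% hb]
    have h2 : b ≫ C.q n = 0 := by
      rw [← cancel_mono (C.v n).hom, Category.assoc, C.vq, reassoc_of% h1, C.w, comp_zero, zero_comp]
    obtain ⟨b', hb'⟩ := C.lift n b h2
    exact ⟨b', by show b' ≫ C.ι n ≫ C.j n = a; rw [reassoc_of% hb', hb]⟩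

/-- A section killed by `ϖ` dies one step below. -/
theorem comp_T_eq_zero (n : ℕ) {A : X.Modules} (g : A ⟶ C.M (n + 1)) (hg : g ≫ tMap f _ ϖ = 0) :
    g ≫ C.T n = 0 := by
  obtain ⟨A', p, hp, a, ha⟩ := surjective_up_to_refinements_of_epi (C.π (n + 1)) g
  have h0 : (a ≫ tMap f (C.I 0) ϖ) ≫ C.π (n + 1) = 0 := by
    rw [Category.assoc, ← tMap_comm, ← reassoc_of% ha, hg, comp_zero]
  obtain ⟨b, hb⟩ := C.factor_j n a ⟨Abelian.monoLift (C.j (n + 1)) (a ≫ tMap f (C.I 0) ϖ) h0,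
    Abelian.monoLift_comp _ _ h0⟩
  rw [← cancel_epi p, comp_zero, reassoc_of% ha, C.π_T, ← hb, Category.assoc, C.j_π, comp_zero]

/-- `T` is a cokernel of multiplication by `ϖ^n`. -/
theorem π_comp_eq_zero (n : ℕ) {A : X.Modules} (g : C.M (n + 1) ⟶ A) (hg : tMap f _ (ϖ ^ n) ≫ g = 0) :
    C.j n ≫ C.π (n + 1) ≫ g = 0 := by
  haveI := C.epiq n
  have h1 : C.ι n ≫ (C.j n ≫ C.π (n + 1) ≫ g) = 0 := by
    rw [← Category.assoc, ← Category.assoc]
    show (C.j (n + 1) ≫ C.π (n + 1)) ≫ g = 0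
    rw [C.j_π, zero_comp]
  have hk : kernel.ι (C.q n) ≫ (C.j n ≫ C.π (n + 1) ≫ g) = 0 := by
    obtain ⟨b, hb⟩ := C.lift n (kernel.ι (C.q n)) (kernel.condition _)
    rw [← hb, Category.assoc, h1, comp_zero]
  let u := Abelian.epiDesc (C.q n) (C.j n ≫ C.π (n + 1) ≫ g) hk
  have hu : C.q n ≫ u = C.j n ≫ C.π (n + 1) ≫ g := Abelian.comp_epiDesc _ _ _
  haveI := C.epiq 0
  have h2 : (C.V n).hom ≫ u = 0 := by
    rw [← cancel_epi (C.q 0), comp_zero, reassoc_of% (C.q_V n), hu, reassoc_of% (C.mp_j n),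
      ← reassoc_of% (tMap_comm f (C.π (n + 1)) (ϖ ^ n)), hg, comp_zero]
  have h3 : u = 0 := by rw [← cancel_epi (C.V n).hom, h2, comp_zero]
  rw [← hu, h3, comp_zero]

/-- The formal system. -/
def G : ℕᵒᵖ ⥤ X.Modules := Functor.ofOpSequence (X := fun n => C.M (n + 1)) (fun n => C.T (n + 1))

theorem G_map (n : ℕ) : C.G.map (homOfLE (Nat.le_succ n)).op = C.T (n + 1) :=
  Functor.ofOpSequence_map_homOfLE_succ _ n

theorem smulMod_eq [X.Over (Spec (CommRingCat.of R))] (hf : X ↘ Spec (CommRingCat.of R) = f) (M : X.Modules)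
    (a : R) : Formal.smulMod R M a = tMap f M a := by
  subst hf; rfl

theorem ι_smulFamily [X.Over (Spec (CommRingCat.of R))] (J : Ideal R) (M : X.Modules) (a : J) :
    Sigma.ι (fun _ : J => M) a ≫ Formal.smulFamily J M = Formal.smulMod R M (a : R) := by
  rw [Formal.smulFamily, Sigma.ι_desc]

theorem smulFamily_comp_eq_zero [X.Over (Spec (CommRingCat.of R))] (hf : X ↘ Spec (CommRingCat.of R) = f) (n : ℕ)
    {M A : X.Modules} (g : M ⟶ A) (hg : tMap f M (ϖ ^ n) ≫ g = 0) :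
    Formal.smulFamily ((Ideal.span {ϖ}) ^ n) M ≫ g = 0 := by
  refine Sigma.hom_ext _ _ fun a => ?_
  rw [Formal.smulFamily, Sigma.ι_desc_assoc, comp_zero, smulMod_eq hf]
  obtain ⟨b, hb⟩ := Ideal.mem_span_singleton.1 ((Ideal.span_singleton_pow ϖ n).le a.2)
  rw [hb, mul_comm, tMap_mul, Category.assoc, hg, comp_zero]

theorem tMap_comp_eq_zero [X.Over (Spec (CommRingCat.of R))] (hf : X ↘ Spec (CommRingCat.of R) = f) (n : ℕ)
    {M A : X.Modules} (g : M ⟶ A) (hg : Formal.smulFamily ((Ideal.span {ϖ}) ^ n) M ≫ g = 0) :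
    tMap f M (ϖ ^ n) ≫ g = 0 := by
  rw [← smulMod_eq hf]
  have hm : ϖ ^ n ∈ (Ideal.span {ϖ}) ^ n := Ideal.pow_mem_pow (Ideal.mem_span_singleton_self ϖ) n
  have h := ι_smulFamily ((Ideal.span {ϖ}) ^ n) M ⟨ϖ ^ n, hm⟩
  dsimp only at h
  rw [← h, Category.assoc, hg, comp_zero]

theorem killed_M [X.Over (Spec (CommRingCat.of R))] (hf : X ↘ Spec (CommRingCat.of R) = f) (n : ℕ) :
    Formal.KilledBy ((Ideal.span {ϖ}) ^ n) (C.M n) := by
  intro a ha
  obtain ⟨b, hb⟩ := Ideal.mem_span_singleton.1 ((Ideal.span_singleton_pow ϖ n).le ha)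
  rw [smulMod_eq hf, hb, tMap_mul, C.tMap_M, zero_comp]

theorem exists_isIso_descT [X.Over (Spec (CommRingCat.of R))] (hf : X ↘ Spec (CommRingCat.of R) = f) (n : ℕ) :
    ∃ h : Formal.smulFamily ((Ideal.span {ϖ}) ^ n) (C.M (n + 1)) ≫ C.T n = 0,
      IsIso (cokernel.desc _ _ h) := by
  have hz : tMap f (C.M (n + 1)) (ϖ ^ n) ≫ C.T n = 0 := by rw [← tMap_comm, C.tMap_M, comp_zero]
  have h : Formal.smulFamily ((Ideal.span {ϖ}) ^ n) (C.M (n + 1)) ≫ C.T n = 0 :=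
    smulFamily_comp_eq_zero hf n _ hz
  have h0 := C.π_comp_eq_zero n (cokernel.π (Formal.smulFamily ((Ideal.span {ϖ}) ^ n) (C.M (n + 1))))
    (tMap_comp_eq_zero hf n _ (cokernel.condition _))
  refine ⟨h, cokernel.desc (C.j n) _ h0, ?_, ?_⟩
  · rw [← cancel_epi (cokernel.π (Formal.smulFamily ((Ideal.span {ϖ}) ^ n) (C.M (n + 1)))), Category.comp_id]
    erw [cokernel.π_desc_assoc]
    rw [← cancel_epi (C.π (n + 1)), reassoc_of% (C.π_T n)]
    exact cokernel.π_desc _ _ _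
  · rw [← cancel_epi (C.π n), Category.comp_id]
    erw [cokernel.π_desc_assoc]
    rw [Category.assoc, cokernel.π_desc]
    exact C.π_T n

theorem isCohFormal [IsNoetherian X] [X.Over (Spec (CommRingCat.of R))] (hf : X ↘ Spec (CommRingCat.of R) = f) :
    Formal.IsCohFormal (Ideal.span {ϖ}) C.G := by
  refine ⟨fun n => C.coh_M (n + 1), fun n => C.killed_M hf (n + 1), fun n => ?_⟩
  rw [C.G_map n]
  exact C.exists_isIso_descT hf (n + 1)

theorem isIso_desc_q : IsIso (cokernel.desc (C.j 1) (C.q 0)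
    (by show (C.ι 0 ≫ 𝟙 _) ≫ C.q 0 = 0; rw [Category.comp_id, C.w]) : C.M 1 ⟶ C.P 0) := by
  haveI := C.epiq 0
  have h : kernel.ι (C.q 0) ≫ C.π 1 = 0 := by
    obtain ⟨b, hb⟩ := C.lift 0 (kernel.ι (C.q 0)) (kernel.condition _)
    rw [← hb, Category.assoc]
    have := C.j_π 1
    rw [show C.j 1 = C.ι 0 from Category.comp_id _] at this
    rw [this, comp_zero]
  refine ⟨Abelian.epiDesc (C.q 0) (C.π 1) h, ?_, ?_⟩
  · rw [← cancel_epi (C.π 1)]
    erw [cokernel.π_desc_assoc, Category.comp_id]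
    exact Abelian.comp_epiDesc _ _ _
  · rw [← cancel_epi (C.q 0)]
    erw [Abelian.comp_epiDesc_assoc, cokernel.π_desc, Category.comp_id]

/-- The limit of the chain. -/
theorem exists_limit [IsNoetherianRing R] [IsAdicComplete (Ideal.span {ϖ}) R] [IsProper f] :
    ∃ (F : X.Modules) (p : C.I 0 ⟶ F) (τ : F ⟶ C.P 0), Coh.IsCoh F ∧ Mono (tMap f F ϖ) ∧ p ≫ τ = C.q 0 ∧
      tMap f F ϖ ≫ τ = 0 ∧ ∀ {A : X.Modules} (g : F ⟶ A), tMap f F ϖ ≫ g = 0 → ∃ g', τ ≫ g' = g := by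
  letI : X.Over (Spec (CommRingCat.of R)) := ⟨f⟩
  haveI : IsProper (X ↘ Spec (CommRingCat.of R)) := ‹IsProper f›
  haveI : IsLocallyNoetherian X := LocallyOfFiniteType.isLocallyNoetherian f
  haveI : CompactSpace X := QuasiCompact.compactSpace_of_compactSpace f
  haveI : AlgebraicGeometry.IsNoetherian X := { }
  obtain ⟨hhom, hex⟩ := S0004.result R (Ideal.span {ϖ}) X
  obtain ⟨F, hF, ⟨e⟩⟩ := hex C.G (C.isCohFormal rfl)
  let c : ∀ n, Formal.modPow (Ideal.span {ϖ}) (n + 1) (C.I 0) ⟶ C.M (n + 1) := fun n =>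
    cokernel.desc _ (C.π (n + 1)) (smulFamily_comp_eq_zero (f := f) rfl (n + 1) _ (by rw [← tMap_comm, C.tMap_M, comp_zero]))
  have hc : ∀ n, Formal.modPowπ (Ideal.span {ϖ}) (n + 1) (C.I 0) ≫ c n = C.π (n + 1) :=
    fun n => cokernel.π_desc _ _ _
  let cN : Formal.completion (Ideal.span {ϖ}) (C.I 0) ⟶ C.G :=
    NatTrans.ofOpSequence (fun n => c n) (fun n => by
      rw [C.G_map n]
      haveI : Epi (Formal.modPowπ (Ideal.span {ϖ}) (n + 1 + 1) (C.I 0)) := inferInstanceAs (Epi (cokernel.π _))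
      refine (cancel_epi (Formal.modPowπ (Ideal.span {ϖ}) (n + 1 + 1) (C.I 0))).1 ?_
      erw [Functor.ofOpSequence_map_homOfLE_succ, reassoc_of% (Formal.modPowπ_trans (Ideal.span {ϖ}) (n + 1) (C.I 0)), hc n, reassoc_of% (hc (n + 1))]
      exact (C.π_T (n + 1)).symm)
  obtain ⟨p, hp, -⟩ := hhom (C.I 0) F (C.coh 0) hF (cN ≫ e.inv)
  have hpn : ∀ n, C.π (n + 1) ≫ e.inv.app (op n) = p ≫ Formal.modPowπ (Ideal.span {ϖ}) (n + 1) F := fun n => by
    refine Eq.trans ?_ (hp n)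
    rw [← hc n]
    exact Category.assoc _ _ _
  let E : Formal.modPow (Ideal.span {ϖ}) (0 + 1) F ≅ C.M 1 := e.app (op 0)
  haveI := C.isIso_desc_q
  let s : C.M 1 ⟶ C.P 0 := cokernel.desc (C.j 1) (C.q 0)
    (by show (C.ι 0 ≫ 𝟙 _) ≫ C.q 0 = 0; rw [Category.comp_id, C.w])
  haveI : IsIso s := C.isIso_desc_q
  let τ : F ⟶ C.P 0 := Formal.modPowπ (Ideal.span {ϖ}) (0 + 1) F ≫ E.hom ≫ s
  refine ⟨F, p, τ, hF, ?_, ?_, ?_, fun g hg => ?_⟩
  · refine Preadditive.mono_of_kernel_zero ?_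
    have hK : Coh.IsCoh (kernel (tMap f F ϖ)) := QCoh.isCoh_kernel hF hF _
    obtain ⟨φ, -, huniq⟩ := hhom _ F hK hF 0
    have hz : ∀ n, kernel.ι (tMap f F ϖ) ≫ Formal.modPowπ (Ideal.span {ϖ}) (n + 1) F = 0 := fun n => by
      have hnat : Formal.modPowπ (Ideal.span {ϖ}) (n + 1 + 1) F ≫ e.hom.app (op (n + 1)) ≫ C.T (n + 1) =
          Formal.modPowπ (Ideal.span {ϖ}) (n + 1) F ≫ e.hom.app (op n) := by
        rw [← C.G_map n, ← e.hom.naturality]
        erw [Functor.ofOpSequence_map_homOfLE_succ, reassoc_of% (Formal.modPowπ_trans (Ideal.span {ϖ}) (n + 1) F)]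
      rw [← cancel_mono (e.hom.app (op n)), zero_comp, Category.assoc, ← hnat]
      have h := C.comp_T_eq_zero (n + 1)
        (kernel.ι (tMap f F ϖ) ≫ Formal.modPowπ (Ideal.span {ϖ}) (n + 1 + 1) F ≫ e.hom.app (op (n + 1))) (by
          rw [Category.assoc]
          erw [tMap_comm f (Formal.modPowπ (Ideal.span {ϖ}) (n + 1 + 1) F ≫ e.hom.app (op (n + 1))) ϖ]
          rw [kernel.condition_assoc, zero_comp])
      refine Eq.trans ?_ h
      simp only [Category.assoc]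
    have e1 := huniq (kernel.ι (tMap f F ϖ)) (fun n => by rw [hz n]; exact comp_zero)
    have e0 := huniq 0 (fun n => by rw [zero_comp]; exact comp_zero)
    exact e1.trans e0.symm
  · show p ≫ Formal.modPowπ (Ideal.span {ϖ}) (0 + 1) F ≫ E.hom ≫ s = C.q 0
    rw [← reassoc_of% (hpn 0)]
    erw [E.inv_hom_id_assoc]
    exact cokernel.π_desc _ _ _
  · show tMap f F ϖ ≫ Formal.modPowπ (Ideal.span {ϖ}) (0 + 1) F ≫ E.hom ≫ s = 0
    have h := tMap_comp_eq_zero (f := f) (ϖ := ϖ) rfl (0 + 1) (Formal.modPowπ (Ideal.span {ϖ}) (0 + 1) F)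
      (cokernel.condition _)
    rw [zero_add, pow_one] at h
    rw [reassoc_of% h, zero_comp]
  · have hd := smulFamily_comp_eq_zero (f := f) (ϖ := ϖ) rfl (0 + 1) g (by rw [zero_add, pow_one]; exact hg)
    refine ⟨inv s ≫ E.inv ≫ cokernel.desc _ g hd, ?_⟩
    show (Formal.modPowπ (Ideal.span {ϖ}) (0 + 1) F ≫ E.hom ≫ s) ≫ _ = g
    simp only [Category.assoc, IsIso.hom_inv_id_assoc, Iso.hom_inv_id_assoc]
    exact cokernel.π_desc _ _ _

end Chain

end Groth.Agent.TFQuot7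

end
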