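import Groth.Agent.TFQuot7.Quot
import Groth.Agent.IntNum.Push
import Groth.Agent.Lib.CurveTensor
import Groth.Agent.KRR7.PullModel

/-! Inclusion–exclusion for additive invariants and for degrees on subcurves. -/

set_option autoImplicit false
set_option maxHeartbeats 400000
set_option backward.isDefEq.respectTransparency false
set_option backward.isDefEq.respectTransparency.types false
set_option linter.unusedSectionVars false
set_option linter.style.haveILetI false

universe u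

open CategoryTheory CategoryTheory.Limits AlgebraicGeometry TopologicalSpace Opposite

noncomputable section

namespace Groth.Agent.TFQuot7

open Groth.Agent CycK

variable {X : Scheme.{u}}

/-- An additive invariant of coherent modules. -/
def Additive (Φ : X.Modules → ℤ) : Prop :=
  ∀ (S : ShortComplex X.Modules), S.ShortExact → Coh.IsCoh S.X₁ → Coh.IsCoh S.X₂ → Coh.IsCoh S.X₃ →
    Φ S.X₂ = Φ S.X₁ + Φ S.X₃

theorem Additive.biprod [IsNoetherian X] {Φ : X.Modules → ℤ} (hΦ : Additive Φ) {A B : X.Modules} (hA : Coh.IsCoh A)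
    (hB : Coh.IsCoh B) : Φ (A ⊞ B : X.Modules) = Φ A + Φ B := by
  let S : ShortComplex X.Modules :=
    ShortComplex.mk (biprod.inl : A ⟶ A ⊞ B) (biprod.snd : A ⊞ B ⟶ B) biprod.inl_snd
  let sp : S.Splitting := { r := biprod.fst, s := biprod.inr }
  have hAB : Coh.IsCoh (A ⊞ B : X.Modules) := KZ.isCoh_biprod hA hB
  exact hΦ S sp.shortExact hA hAB hB

theorem Additive.mono [IsNoetherian X] {Φ : X.Modules → ℤ} (hΦ : Additive Φ) {A B : X.Modules} (hA : Coh.IsCoh A)
    (hB : Coh.IsCoh B) (e : A ⟶ B) [Mono e] : Φ B = Φ A + Φ (cokernel e) := by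
  let S : ShortComplex X.Modules := ShortComplex.mk e (cokernel.π e) (cokernel.condition e)
  have hS : S.ShortExact := { exact := ShortComplex.exact_of_g_is_cokernel _ (cokernelIsCokernel e) }
  exact hΦ S hS hA hB (QCoh.isCoh_cokernel hA.1 hB e)

theorem Additive.kernel_eq [IsNoetherian X] {Φ : X.Modules → ℤ} (hΦ : Additive Φ) {A B : X.Modules}
    (hA : Coh.IsCoh A) (hB : Coh.IsCoh B) (g : A ⟶ B) [Epi g] : Φ A = Φ (kernel g) + Φ B := by
  let S : ShortComplex X.Modules := ShortComplex.mk (kernel.ι g) g (kernel.condition g)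
  have hS : S.ShortExact := { exact := ShortComplex.exact_kernel g }
  exact hΦ S hS (QCoh.isCoh_kernel hA hB g) hA hB

/-- Inclusion–exclusion up to a module of finite length. -/
theorem exists_incl_excl [IsNoetherian X] [AlgebraicGeometry.IsReduced X]
    (hpure : ∀ C ∈ irreducibleComponents (X : Type u), topologicalKrullDim C = 1)
    {M : X.Modules} (hM : TFOne.IsRkOne X M) {Y Z U W : Set X}
    (hWY : W ⊆ Y) (hWZ : W ⊆ Z) (hYU : Y ⊆ U) (hZU : Z ⊆ U)
    (hU : ∀ y ∈ genericPoints X, y ∈ U → y ∈ Y ∨ y ∈ Z)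
    (hW : ∀ y ∈ genericPoints X, y ∈ Y → y ∈ Z → y ∈ W)
    {GY GZ GU GW : X.Modules} {πY : M ⟶ GY} {πZ : M ⟶ GZ} {πU : M ⟶ GU} {πW : M ⟶ GW}
    (hGY : TFOne.IsQuotOn X M Y GY πY) (hGZ : TFOne.IsQuotOn X M Z GZ πZ)
    (hGU : TFOne.IsQuotOn X M U GU πU) (hGW : TFOne.IsQuotOn X M W GW πW) :
    ∃ Q : X.Modules, Coh.IsCoh Q ∧ (∀ y ∈ CohB1.support Q, IsClosed ({y} : Set X)) ∧
      ∀ Φ : X.Modules → ℤ, Additive Φ → Φ GY + Φ GZ = Φ GU + Φ GW + Φ Q := by
  obtain ⟨aY, haY, -⟩ := exists_restrict hM hGU hGY hYU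
  obtain ⟨aZ, haZ, -⟩ := exists_restrict hM hGU hGZ hZU
  obtain ⟨rY, hrY, hrYe⟩ := exists_restrict hM hGY hGW hWY
  obtain ⟨rZ, hrZ, -⟩ := exists_restrict hM hGZ hGW hWZ
  haveI := hGU.1
  have haw : aY ≫ rY = aZ ≫ rZ := by
    rw [← cancel_epi πU, ← Category.assoc, ← Category.assoc, haY, haZ, hrY, hrZ]
  have hfg : biprod.lift aY aZ ≫ biprod.desc rY (-rZ) = 0 := by
    rw [biprod.lift_desc, Preadditive.comp_neg, haw, add_neg_cancel]
  haveI : Epi (biprod.desc rY (-rZ)) := by
    haveI : Epi (biprod.inl ≫ biprod.desc rY (-rZ)) := by rw [biprod.inl_desc]; exact hrYe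
    exact epi_of_epi biprod.inl _
  haveI hmono : Mono (biprod.lift aY aZ) := mono_lift (quot_det hGU) aY aZ fun y hf v h1 h2 => by
    obtain ⟨m, rfl⟩ := quot_surjective hGU y v
    rw [sl_sl_comp haY] at h1
    rw [sl_sl_comp haZ] at h2
    by_cases hy : y ∈ Y
    · rw [(injective_iff_map_eq_zero _).1 (quot_injective hM hGY hf hy) m h1, map_zero]
    by_cases hz : y ∈ Z
    · rw [(injective_iff_map_eq_zero _).1 (quot_injective hM hGZ hf hz) m h2, map_zero]
    exact (quot_subsingleton hGU fun h => (hU y (mem_genericPoints_iff.2 hf) h).elim hy hz).elim _ _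
  have hB : Coh.IsCoh (GY ⊞ GZ : X.Modules) := KZ.isCoh_biprod hGY.2.1 hGZ.2.1
  have hK : Coh.IsCoh (kernel (biprod.desc rY (-rZ))) := QCoh.isCoh_kernel hB hGW.2.1 _
  let e := kernel.lift (biprod.desc rY (-rZ)) (biprod.lift aY aZ) hfg
  haveI : Mono e := by
    haveI : Mono (e ≫ kernel.ι (biprod.desc rY (-rZ))) := by rw [kernel.lift_ι]; exact hmono
    exact mono_of_mono _ (kernel.ι (biprod.desc rY (-rZ)))
  have hQ : Coh.IsCoh (cokernel e) := QCoh.isCoh_cokernel hGU.2.1.1 hK e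
  have hc : ∀ y ∈ CohB1.support (cokernel e), IsClosed ({y} : Set X) := fun y hy => by
    refine isClosed_of_not_isField hpure fun hf => hy ?_
    refine subsingleton_cokernel_lift aY aZ rY (-rZ) hfg y fun p q hpq => ?_
    rw [sl_neg, ← sub_eq_add_neg, sub_eq_zero] at hpq
    by_cases hy' : y ∈ Y
    · obtain ⟨m, rfl⟩ := quot_surjective hGY y p
      refine ⟨sl πU y m, sl_sl_comp haY y m, ?_⟩
      rw [sl_sl_comp haZ]
      by_cases hz : y ∈ Z
      · obtain ⟨n, rfl⟩ := quot_surjective hGZ y q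
        rw [sl_sl_comp hrY, sl_sl_comp hrZ] at hpq
        rw [quot_injective hM hGW hf (hW y (mem_genericPoints_iff.2 hf) hy' hz) hpq]
      · exact (quot_subsingleton hGZ hz).elim _ _
    · obtain ⟨n, rfl⟩ := quot_surjective hGZ y q
      exact ⟨sl πU y n, (quot_subsingleton hGY hy').elim _ _, sl_sl_comp haZ y n⟩
  refine ⟨cokernel e, hQ, hc, fun Φ hΦ => ?_⟩
  have h1 := hΦ.biprod hGY.2.1 hGZ.2.1
  have h2 := hΦ.kernel_eq hB hGW.2.1 (biprod.desc rY (-rZ))
  have h3 := hΦ.mono hGU.2.1 hK e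
  omega

variable (k : Type u) [Field k] [X.Over (Spec (CommRingCat.of k))] [IsProper (X ↘ Spec (CommRingCat.of k))]

theorem euler_isAdditive : Additive (Curv2.euler k X) := fun _ hS h1 h2 h3 =>
  CurveCohLib.euler_additive (k := k) hS h1 h2 h3

/-- `χ(E ⊗ F) − r χ(F)`. -/
def dev (E : X.Modules) (r : ℕ) (F : X.Modules) : ℤ :=
  Curv2.euler k X ((DCoh.tensorBi.obj E).obj F) - r * Curv2.euler k X F

theorem finLocFree_of_rank {E : X.Modules} {r : ℕ} (hE : FlatMod.IsFinLocFreeOfRank r E) :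
    FlatMod.IsFinLocFree E :=
  fun y => let ⟨W, hy, he⟩ := hE y; ⟨W, r, hy, he⟩

theorem dev_additive {E : X.Modules} {r : ℕ} (hE : FlatMod.IsFinLocFreeOfRank r E) : Additive (dev k E r) := by
  intro S hS h1 h2 h3
  have hEf := finLocFree_of_rank hE
  let T : ShortComplex X.Modules := ShortComplex.mk ((DCoh.tensorBi.obj E).map S.f) ((DCoh.tensorBi.obj E).map S.g)
    (by rw [← Functor.map_comp, S.zero, Functor.map_zero])
  have hT : T.ShortExact := CurveTensor.shortExact_tensor hEf S.f S.g S.zero hS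
  have ht : Curv2.euler k X T.X₂ = Curv2.euler k X T.X₁ + Curv2.euler k X T.X₃ :=
    CurveCohLib.euler_additive (k := k) (S := T) hT (CurveTensor.isCoh_tensor hEf h1)
      (CurveTensor.isCoh_tensor hEf h2) (CurveTensor.isCoh_tensor hEf h3)
  have he := CurveCohLib.euler_additive (k := k) hS h1 h2 h3
  unfold dev
  rw [show Curv2.euler k X ((DCoh.tensorBi.obj E).obj S.X₂) = _ from ht, he]
  show _ = Curv2.euler k X T.X₁ - _ + (Curv2.euler k X T.X₃ - _)
  ring

theorem dev_eq_zero {E : X.Modules} {r : ℕ} (hE : FlatMod.IsFinLocFreeOfRank r E) {Q : X.Modules} (hQ : Coh.IsCoh Q)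
    (h0 : ∀ y ∈ CohB1.support Q, IsClosed ({y} : Set X)) : dev k E r Q = 0 := by
  unfold dev
  rw [CurveTensor.euler_tensor_torsion k hE hQ h0, sub_self]

/-- The degree of a bundle on a subcurve (zero on the empty set). -/
def degOn (E : X.Modules) (r : ℕ) (T : Set X) (hT : IsClosed T) : ℤ :=
  letI : (VecSt.subsch X T hT).Over (Spec (CommRingCat.of k)) :=
    ⟨VecSt.subschι X T hT ≫ (X ↘ Spec (CommRingCat.of k))⟩
  Curv2.deg k (VecSt.subsch X T hT) ((Scheme.Modules.pullback (VecSt.subschι X T hT)).obj E) r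

theorem rBeta_eq (E : X.Modules) (r : ℕ) (T : Set X) (hT : IsClosed T) (G : X.Modules) :
    TFOne.rBeta X k (X ↘ Spec (CommRingCat.of k)) T hT E r G = (r : ℤ) * Curv2.euler k X G + degOn k E r T hT :=
  rfl

variable [AlgebraicGeometry.IsReduced X]

theorem degOn_eq_dev {E : X.Modules} {r : ℕ} (hE : FlatMod.IsFinLocFreeOfRank r E) {T : Set X} (hT : IsClosed T)
    (hTu : IsUC T) {G : X.Modules} {π : Coh.structureModule X ⟶ G}
    (hG : TFOne.IsQuotOn X (Coh.structureModule X) T G π) : degOn k E r T hT = dev k E r G := by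
  haveI := CurveCohLib.isNoetherian_of_proper (k := k) (X := X)
  letI : (VecSt.subsch X T hT).Over (Spec (CommRingCat.of k)) :=
    ⟨VecSt.subschι X T hT ≫ (X ↘ Spec (CommRingCat.of k))⟩
  have h := IntNum.deg_pullback_closed k (VecSt.subschι X T hT) rfl
    (QCoh.isQCoh_of_isFinLocFree (finLocFree_of_rank hE)) r
  unfold degOn
  rw [h]
  let P := (Coh.push (VecSt.subschι X T hT)).obj (Coh.structureModule (VecSt.subsch X T hT))
  have hc : CohB1.tensorMod P E ≅ (DCoh.tensorBi.obj E).obj P :=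
    ((KFlatLib.tensorBiFlipIso X).app E).app P
  rw [CurveCohLib.euler_congr (k := k) hc]
  show dev k E r P = dev k E r G
  rcases T.eq_empty_or_nonempty with h0 | h0
  · have hP : Coh.IsCoh P := QCoh.isCoh_push _ (by
      haveI := LocallyOfFiniteType.isLocallyNoetherian (VecSt.subschι X T hT)
      exact QCoh.isCoh_structureModule')
    rw [dev_eq_zero k hE hP (fun y hy => absurd ((range_subschι hT).le
        (QCoh.support_push_subset _ QCoh.isQCoh_structureModule hy)) (by rw [h0]; exact Set.notMem_empty y)),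
      dev_eq_zero k hE hG.2.1 (fun y hy => absurd (hG.2.2.2.le hy) (by rw [h0]; exact Set.notMem_empty y))]
  · obtain ⟨e, -⟩ := exists_iso_quot isTF1_structure.2.2 (isQuotOn_structure hT (hTu.subcurve h0)) hG
    unfold dev
    rw [CurveCohLib.euler_congr (k := k) ((DCoh.tensorBi.obj E).mapIso e), CurveCohLib.euler_congr (k := k) e]

/-- Degrees on subcurves are additive. -/
theorem degOn_union_add_meet (hpure : ∀ C ∈ irreducibleComponents (X : Type u), topologicalKrullDim C = 1)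
    {E : X.Modules} {r : ℕ} (hE : FlatMod.IsFinLocFreeOfRank r E) {Y Z W : Set X}
    (hY : IsClosed Y) (hZ : IsClosed Z) (hWc : IsClosed W) (hYu : IsUC Y) (hZu : IsUC Z) (hWu : IsUC W)
    (hWY : W ⊆ Y) (hWZ : W ⊆ Z) (hW : ∀ y ∈ genericPoints X, y ∈ Y → y ∈ Z → y ∈ W) :
    degOn k E r Y hY + degOn k E r Z hZ = degOn k E r (Y ∪ Z) (hY.union hZ) + degOn k E r W hWc := by
  haveI := CurveCohLib.isNoetherian_of_proper (k := k) (X := X)
  obtain ⟨GY, πY, hGY⟩ := exists_quotOn (isTF1_structure (X := X)) hYu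
  obtain ⟨GZ, πZ, hGZ⟩ := exists_quotOn (isTF1_structure (X := X)) hZu
  obtain ⟨GW, πW, hGW⟩ := exists_quotOn (isTF1_structure (X := X)) hWu
  obtain ⟨GU, πU, hGU⟩ := exists_quotOn (isTF1_structure (X := X)) (hYu.union hZu)
  obtain ⟨Q, hQ, hQ0, hΦ⟩ := exists_incl_excl hpure isTF1_structure.2.2 hWY hWZ Set.subset_union_left
    Set.subset_union_right (fun y _ h => h) hW hGY hGZ hGU hGW
  rw [degOn_eq_dev k hE hY hYu hGY, degOn_eq_dev k hE hZ hZu hGZ, degOn_eq_dev k hE _ (hYu.union hZu) hGU,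
    degOn_eq_dev k hE hWc hWu hGW, hΦ _ (dev_additive k hE), dev_eq_zero k hE hQ hQ0, add_zero]

theorem degOn_univ {E : X.Modules} {r : ℕ} (hE : FlatMod.IsFinLocFreeOfRank r E) :
    degOn k E r Set.univ isClosed_univ = Curv2.deg k X E r := by
  haveI := CurveCohLib.isNoetherian_of_proper (k := k) (X := X)
  have hO := isTF1_structure (X := X)
  have hG : TFOne.IsQuotOn X (Coh.structureModule X) Set.univ (Coh.structureModule X) (𝟙 _) :=
    ⟨inferInstance, hO.1, hO.2.1, Set.Subset.antisymm (Set.subset_univ _)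
      (isUC_univ.subset_of_generic (QCoh.isClosed_support_of_isFT hO.1.1 hO.1.2) fun y hy _ hs => by
        obtain ⟨v, hv⟩ := exists_ne_zero_of_rkOne hO.2.2 hy
        exact hv (hs.elim _ _))⟩
  rw [degOn_eq_dev k hE _ isUC_univ hG]
  unfold dev Curv2.deg
  rw [CurveCohLib.euler_congr (k := k) (KFlatLib.tensorUnitIso E)]

theorem degOn_empty {E : X.Modules} {r : ℕ} (hE : FlatMod.IsFinLocFreeOfRank r E) (h : IsClosed (∅ : Set X)) :
    degOn k E r ∅ h = 0 := by
  haveI := CurveCohLib.isNoetherian_of_proper (k := k) (X := X)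
  obtain ⟨G, π, hG⟩ := exists_quotOn (isTF1_structure (X := X)) isUC_empty
  rw [degOn_eq_dev k hE h isUC_empty hG,
    dev_eq_zero k hE hG.2.1 fun y hy => absurd (hG.2.2.2.le hy) (Set.notMem_empty y)]

end Groth.Agent.TFQuot7

end
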