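import Groth.Prelude.Def_TFOne
import Groth.Prelude.Def_Curv2
import Mathlib

/-! The ground field is algebraically closed in the function field of a geometrically integral scheme. -/

set_option autoImplicit false
set_option backward.isDefEq.respectTransparency false
set_option backward.isDefEq.respectTransparency.types false
set_option linter.unusedSectionVars false
set_option linter.style.haveILetI false

universe u

open CategoryTheory CategoryTheory.Limits AlgebraicGeometry TopologicalSpace Opposite
open scoped TensorProduct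

noncomputable section

namespace Groth.Agent.TFQuot7

theorem isDomain_tensor_self {k : Type u} [Field k] {B L : Type u} [CommRing B] [IsDomain B] [Algebra k B]
    [Field L] [Algebra k L] [IsDomain (L ⊗[k] B)] (ψ : L →ₗ[k] B) (hψ : Function.Injective ψ) (c : B) (hc : c ≠ 0)
    (hmul : ∀ l m, ψ l * ψ m = c * ψ (l * m)) : IsDomain (L ⊗[k] L) := by
  let Ψ := LinearMap.lTensor L ψ
  have hΨ : Function.Injective Ψ := Module.Flat.lTensor_preserves_injective_linearMap ψ hψ
  have key : ∀ x y : L ⊗[k] L, Ψ x * Ψ y = ((1 : L) ⊗ₜ[k] c) * Ψ (x * y) := by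
    intro x y
    induction x using TensorProduct.induction_on with
    | zero => simp
    | tmul a b =>
      induction y using TensorProduct.induction_on with
      | zero => simp
      | tmul a' b' => simp [Ψ, hmul]
      | add y₁ y₂ h₁ h₂ => simp [mul_add, map_add, h₁, h₂]
    | add x₁ x₂ h₁ h₂ => simp [add_mul, mul_add, map_add, h₁, h₂]
  haveI : Nontrivial (L ⊗[k] L) := (Algebra.TensorProduct.lmul' k (S := L)).toRingHom.domain_nontrivial
  haveI : NoZeroDivisors (L ⊗[k] L) := ⟨fun {x y} h => by
    have h1 : Ψ x * Ψ y = 0 := by rw [key, h, map_zero, mul_zero]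
    rcases mul_eq_zero.1 h1 with h2 | h2
    · exact .inl (hΨ (h2.trans (map_zero Ψ).symm))
    · exact .inr (hΨ (h2.trans (map_zero Ψ).symm))⟩
  exact NoZeroDivisors.to_isDomain _

/-- If `K ⊗ B` is a domain for every field `K` over `k`, then `k` is integrally closed in the fraction field of `B`. -/
theorem mem_range_of_isIntegral {k : Type u} [Field k] {B F : Type u} [CommRing B] [IsDomain B] [Algebra k B]
    [Field F] [Algebra B F] [IsFractionRing B F] [Algebra k F] [IsScalarTower k B F]
    (hB : ∀ (K : Type u) [Field K] [Algebra k K], IsDomain (K ⊗[k] B)) {a : F} (ha : IsIntegral k a) :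
    a ∈ Set.range (algebraMap k F) := by
  classical
  let L := IntermediateField.adjoin k ({a} : Set F)
  haveI : FiniteDimensional k L := IntermediateField.adjoin.finiteDimensional ha
  let b := Module.finBasis k L
  obtain ⟨c, hc⟩ := IsLocalization.exist_integer_multiples_of_finite (nonZeroDivisors B) (fun i => ((b i : L) : F))
  have hc0 : (c : B) ≠ 0 := nonZeroDivisors.ne_zero c.2
  let ι : B →ₗ[k] F := (IsScalarTower.toAlgHom k B F).toLinearMap
  have hι : Function.Injective ι := IsFractionRing.injective B F
  let f : L →ₗ[k] F := (LinearMap.mulLeft k (algebraMap B F c)).comp L.val.toLinearMap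
  have hf : ∀ l, f l ∈ LinearMap.range ι := by
    intro l
    rw [← b.sum_repr l, map_sum]
    refine Submodule.sum_mem _ fun i _ => ?_
    rw [map_smul]
    refine Submodule.smul_mem _ _ ?_
    obtain ⟨w, hw⟩ := hc i
    exact ⟨w, hw.trans (Algebra.smul_def _ _)⟩
  let ψ : L →ₗ[k] B := (LinearEquiv.ofInjective ι hι).symm.toLinearMap.comp (f.codRestrict _ hf)
  have hψe : ∀ l, algebraMap B F (ψ l) = algebraMap B F c * (l : F) := fun l =>
    congrArg Subtype.val ((LinearEquiv.ofInjective ι hι).apply_symm_apply (f.codRestrict _ hf l))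
  have hψ : Function.Injective ψ := fun l m h => by
    have h' := congrArg (algebraMap B F) h
    rw [hψe, hψe] at h'
    exact Subtype.ext (mul_left_cancel₀ ((map_ne_zero_iff _ (IsFractionRing.injective B F)).2 hc0) h')
  haveI := hB L
  haveI := isDomain_tensor_self ψ hψ (c : B) hc0 fun l m => IsFractionRing.injective B F (by
    rw [map_mul, map_mul, hψe, hψe, hψe]; push_cast; ring)
  let μ := Algebra.TensorProduct.lmul' k (S := L)
  have hinj : Function.Injective μ := (injective_iff_map_eq_zero μ).2 fun x hx => by
    by_contra hx0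
    have hu := (FiniteDimensional.isUnit k hx0).map μ
    rw [hx] at hu
    exact not_isUnit_zero hu
  have hle := LinearMap.finrank_le_finrank_of_injective (f := μ.toLinearMap) hinj
  rw [Module.finrank_tensorProduct] at hle
  have h1 : Module.finrank k L = 1 := by
    have := Module.finrank_pos (R := k) (M := L)
    nlinarith
  have hmem : a ∈ (⊥ : IntermediateField k F) := by
    rw [← IntermediateField.finrank_eq_one_iff.1 h1]
    exact IntermediateField.subset_adjoin k _ rfl
  exact IntermediateField.mem_bot.1 hmem

/-- Sections over an affine open of a geometrically integral scheme stay a domain after field extensions. -/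
theorem isDomain_tensor_sections {k : Type u} [Field k] {S : Scheme.{u}} (q : S ⟶ Spec (CommRingCat.of k))
    [GeometricallyIntegral q] {V : S.Opens} (hV : IsAffineOpen V) [Nonempty V] [Algebra k Γ(S, V)]
    (halg : algebraMap k Γ(S, V) = (S.presheaf.map (homOfLE (le_top : V ≤ ⊤)).op).hom.comp (Coh.toGlobal q))
    (K : Type u) [Field K] [Algebra k K] : IsDomain (K ⊗[k] Γ(S, V)) := by
  haveI : AlgebraicGeometry.IsIntegral S := GeometricallyIntegral.isIntegral_of_subsingleton q
  let f := Spec.map (CommRingCat.ofHom (algebraMap k Γ(S, V)))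
  let g := Spec.map (CommRingCat.ofHom (algebraMap k K))
  have hf : f = hV.fromSpec ≫ q := by
    rw [← cancel_mono (Spec (CommRingCat.of k)).toSpecΓ, Category.assoc,
      show q ≫ (Spec (CommRingCat.of k)).toSpecΓ = S.toSpecΓ ≫ Spec.map q.appTop from Scheme.toSpecΓ_naturality q,
      IsAffineOpen.fromSpec_toSpecΓ_assoc, ← SpecMap_ΓSpecIso_hom, ← Spec.map_comp, ← Spec.map_comp]
    congr 1
    refine CommRingCat.hom_ext (RingHom.ext fun x => ?_)
    show algebraMap k Γ(S, V) ((Scheme.ΓSpecIso (CommRingCat.of k)).hom x) = _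
    rw [halg]
    show (S.presheaf.map (homOfLE (le_top : V ≤ ⊤)).op) (q.appTop ((Scheme.ΓSpecIso (CommRingCat.of k)).inv
      ((Scheme.ΓSpecIso (CommRingCat.of k)).hom x))) = _
    rw [Iso.hom_inv_id_apply]
    rfl
  haveI hint : AlgebraicGeometry.IsIntegral (pullback q g) :=
    GeometricallyIntegral.geometrically_isIntegral g _ _ (IsPullback.of_hasPullback q g)
  let i : pullback f g ⟶ pullback q g :=
    pullback.map _ _ _ _ hV.fromSpec (𝟙 _) (𝟙 _) (by rw [Category.comp_id, hf]) (by simp)
  haveI : IsOpenImmersion i := inferInstance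
  haveI : Nontrivial (Γ(S, V) ⊗[k] K) :=
    Algebra.TensorProduct.nontrivial_of_algebraMap_injective_of_isDomain k Γ(S, V) K (RingHom.injective _) (RingHom.injective _)
  haveI : Nonempty (Spec (CommRingCat.of (Γ(S, V) ⊗[k] K))) := inferInstanceAs (Nonempty (PrimeSpectrum _))
  let e := pullbackSpecIso k Γ(S, V) K
  haveI : Nonempty ↥(pullback f g) := ⟨e.inv (Nonempty.some inferInstance)⟩
  haveI := isIntegral_of_isOpenImmersion i
  haveI := isIntegral_of_isOpenImmersion e.inv
  haveI : IsDomain (Γ(S, V) ⊗[k] K) := (affine_isIntegral_iff (CommRingCat.of (Γ(S, V) ⊗[k] K))).1 inferInstance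
  exact (Algebra.TensorProduct.comm k K Γ(S, V)).toRingEquiv.toMulEquiv.isDomain _

/-- A regular function at the generic point of a geometrically integral scheme that is integral over `k` is constant. -/
theorem exists_scalar_functionField {k : Type u} [Field k] {S : Scheme.{u}} (q : S ⟶ Spec (CommRingCat.of k))
    [GeometricallyIntegral q] [AlgebraicGeometry.IsIntegral S] {a : S.functionField}
    (ha : RingHom.IsIntegralElem
      ((S.presheaf.germ ⊤ (genericPoint S) trivial).hom.comp (Coh.toGlobal q)) a) :
    ∃ c : k, (S.presheaf.germ ⊤ (genericPoint S) trivial).hom (Coh.toGlobal q c) = a := by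
  obtain ⟨V, hV, hxV, -⟩ := exists_isAffineOpen_mem_and_subset (U := (⊤ : S.Opens)) (x := genericPoint S) trivial
  haveI : Nonempty V := ⟨⟨_, hxV⟩⟩
  letI : Algebra k Γ(S, V) :=
    ((S.presheaf.map (homOfLE (le_top : V ≤ ⊤)).op).hom.comp (Coh.toGlobal q)).toAlgebra
  letI : Algebra k S.functionField :=
    ((S.presheaf.germ ⊤ (genericPoint S) trivial).hom.comp (Coh.toGlobal q)).toAlgebra
  haveI := functionField_isFractionRing_of_isAffineOpen S V hV
  haveI : IsScalarTower k Γ(S, V) S.functionField := IsScalarTower.of_algebraMap_eq fun c =>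
    (S.presheaf.germ_res_apply (homOfLE (le_top : V ≤ ⊤)) (genericPoint S) hxV (Coh.toGlobal q c)).symm
  obtain ⟨c, hc⟩ := mem_range_of_isIntegral (B := Γ(S, V))
    (fun K _ _ => isDomain_tensor_sections q hV rfl K) ha
  exact ⟨c, hc⟩

/-- On a scheme with a geometrically integral component, a regular function at its generic point integral over `k` is
constant. -/
theorem exists_scalar_stalk {k : Type u} [Field k] {X : Scheme.{u}} [X.Over (Spec (CommRingCat.of k))]
    {y : X} (hy : IsField (X.presheaf.stalk y)) {C : Set X} (hC : IsClosed C) (hcl : closure ({y} : Set X) = C)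
    (hgi : GeometricallyIntegral (VecSt.subschι X C hC ≫ (X ↘ Spec (CommRingCat.of k))))
    {a : X.presheaf.stalk y} (ha : RingHom.IsIntegralElem (Curv2.stalkMap k X y) a) :
    ∃ c : k, Curv2.stalkMap k X y c = a := by
  haveI := hgi
  let ι := VecSt.subschι X C hC
  haveI : AlgebraicGeometry.IsIntegral (VecSt.subsch X C hC) :=
    GeometricallyIntegral.isIntegral_of_subsingleton (ι ≫ (X ↘ Spec (CommRingCat.of k)))
  have hr : Set.range ι = C := by
    refine (Scheme.IdealSheafData.range_subschemeι _).trans ?_
    simp [hC.closure_eq]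
  have hgen : ι (genericPoint (VecSt.subsch X C hC)) = y := by
    have h2 := (genericPoint_spec (VecSt.subsch X C hC)).image ι.continuous
    rw [Set.image_univ, hr, hC.closure_eq] at h2
    exact h2.eq hcl
  subst hgen
  let φ := (ι.stalkMap (genericPoint (VecSt.subsch X C hC))).hom
  have hφ : Function.Injective φ := (injective_iff_map_eq_zero φ).2 fun x hx => by
    by_contra hx0
    obtain ⟨z, hz⟩ := hy.mul_inv_cancel hx0
    have h1 := congrArg φ hz
    rw [map_mul, hx, zero_mul, map_one] at h1
    exact zero_ne_one h1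
  have hcomm : φ.comp (Curv2.stalkMap k X (ι (genericPoint (VecSt.subsch X C hC)))) =
      ((VecSt.subsch X C hC).presheaf.germ ⊤ (genericPoint (VecSt.subsch X C hC)) trivial).hom.comp
        (Coh.toGlobal (ι ≫ (X ↘ Spec (CommRingCat.of k)))) :=
    RingHom.ext fun c => Scheme.Hom.germ_stalkMap_apply ι ⊤ _ trivial _
  have ha' : RingHom.IsIntegralElem (φ.comp (Curv2.stalkMap k X (ι (genericPoint (VecSt.subsch X C hC))))) (φ a) := by
    obtain ⟨p, hp, hpa⟩ := ha
    refine ⟨p, hp, ?_⟩
    rw [← Polynomial.hom_eval₂, hpa, map_zero]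
  rw [hcomm] at ha'
  obtain ⟨c, hc⟩ := exists_scalar_functionField _ ha'
  refine ⟨c, hφ ?_⟩
  rw [← hc]
  exact RingHom.congr_fun hcomm c

end Groth.Agent.TFQuot7

end
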