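import Groth.Agent.TFQuot7.Basic
import Groth.Agent.TFQuot7.GenField
import Groth.Agent.CurveKS.HomFinite

/-! The scalar of an endomorphism of a rank-one module at a generic point. -/

set_option autoImplicit false
set_option backward.isDefEq.respectTransparency false
set_option backward.isDefEq.respectTransparency.types false
set_option linter.unusedSectionVars false
set_option linter.style.haveILetI false

universe u

open CategoryTheory CategoryTheory.Limits AlgebraicGeometry TopologicalSpace Opposite

noncomputable section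

namespace Groth.Agent.TFQuot7

open Groth.Agent CycK

variable {X : Scheme.{u}} {M : X.Modules} (hM : TFOne.IsRkOne X M) {y : X} (hy : y ∈ genericPoints X)

def ev (φ : M ⟶ M) : X.presheaf.stalk y := (hM y hy).some (sl φ y ((hM y hy).some.symm 1))

theorem ev_spec (φ : M ⟶ M) (v : M.presheaf.stalk y) : sl φ y v = ev hM hy φ • v := by
  apply (hM y hy).some.injective
  have hv : v = (hM y hy).some v • (hM y hy).some.symm 1 := by
    apply (hM y hy).some.injective
    rw [map_smul, LinearEquiv.apply_symm_apply, smul_eq_mul, mul_one]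
  conv_lhs => rw [hv]
  rw [map_smul, map_smul, map_smul, smul_eq_mul, smul_eq_mul, mul_comm]
  rfl

theorem ev_eq (φ : M ⟶ M) {a : X.presheaf.stalk y} (h : ∀ v, sl φ y v = a • v) : ev hM hy φ = a := by
  unfold ev
  rw [h, map_smul, LinearEquiv.apply_symm_apply, smul_eq_mul, mul_one]

variable (k : Type u) [Field k] [X.Over (Spec (CommRingCat.of k))]

theorem stalkMap_injective (y : X) : Function.Injective (Curv2.stalkMap k X y) :=
  RingHom.injective _

theorem ev_smulMod (c : k) : ev hM hy (Formal.smulMod k M c) = Curv2.stalkMap k X y c :=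
  ev_eq hM hy _ fun v => sl_smulMod M c y v

theorem algebraMap_end (c : k) :
    algebraMap k (End M) c = (Formal.smulMod k M c : End M) := by
  rw [Algebra.algebraMap_eq_smul_one]
  exact Category.comp_id _

/-- `ev` as an algebra map. -/
def evHom : letI := (Curv2.stalkMap k X y).toAlgebra; End M →ₐ[k] X.presheaf.stalk y :=
  letI := (Curv2.stalkMap k X y).toAlgebra
  { toFun := fun φ => ev hM hy φ
    map_one' := ev_eq hM hy _ fun v => by rw [End.one_def, sl_id, one_smul]; rfl
    map_mul' := fun φ ψ => ev_eq hM hy _ fun v => by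
      rw [End.mul_def, sl_comp_apply, ev_spec hM hy φ, ev_spec hM hy ψ, mul_smul]
    map_zero' := ev_eq hM hy _ fun v => by rw [zero_smul, sl_zero]; rfl
    map_add' := fun φ ψ => ev_eq hM hy _ fun v => by
      rw [sl_add, ev_spec hM hy φ, ev_spec hM hy ψ, add_smul]
    commutes' := fun c => by
      show ev hM hy (algebraMap k (End M) c) = _
      rw [algebraMap_end]
      exact ev_smulMod hM hy k c }

theorem ev_aeval (φ : End M) (p : Polynomial k) :
    ev hM hy (Polynomial.aeval φ p : End M) = p.eval₂ (Curv2.stalkMap k X y) (ev hM hy φ) := by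
  letI := (Curv2.stalkMap k X y).toAlgebra
  exact (Polynomial.aeval_algHom_apply (evHom hM hy k) φ p).symm

theorem exists_scalar [IsProper (X ↘ Spec (CommRingCat.of k))] [AlgebraicGeometry.IsReduced X] (hMc : Coh.IsCoh M)
    (hgi : ∀ (C : Set X) (hC : C ∈ irreducibleComponents (X : Type u)),
      GeometricallyIntegral (VecSt.subschι X C (isClosed_of_mem_irreducibleComponents C hC) ≫
        (X ↘ Spec (CommRingCat.of k)))) (φ : M ⟶ M) :
    ∃ c : k, Curv2.stalkMap k X y c = ev hM hy φ := by
  haveI : Module.Finite k (End M) := CurveKS.finite_hom k hMc hMc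
  obtain ⟨p, hp, hpφ⟩ : IsIntegral k (show End M from φ) := IsIntegral.of_finite k _
  refine exists_scalar_stalk (mem_genericPoints_iff.1 hy) (isClosed_closure) rfl
    (hgi _ hy) ⟨p, hp, ?_⟩
  rw [← ev_aeval hM hy k φ p]
  refine (congrArg (ev hM hy) hpφ).trans (ev_eq hM hy _ fun v => ?_)
  rw [zero_smul, sl_zero]; rfl

end Groth.Agent.TFQuot7

end
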