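import Groth.Agent.TFQuot7.Reduce
import Groth.Agent.QCoh.FlatOver
import Mathlib.RingTheory.Flat.TorsionFree

/-! Flatness over a discrete valuation ring: injectivity of multiplication by the uniformizer. -/

set_option autoImplicit false
set_option maxHeartbeats 400000
set_option backward.isDefEq.respectTransparency false
set_option backward.isDefEq.respectTransparency.types false
set_option linter.unusedSectionVars false
set_option linter.style.haveILetI false

universe u

open CategoryTheory CategoryTheory.Limits AlgebraicGeometry TopologicalSpace Opposite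

noncomputable section

namespace Groth.Agent.TFQuot7

open Groth.Agent CycK

variable {X : Scheme.{u}} {R : Type u} [CommRing R] [IsDomain R] [IsDiscreteValuationRing R]
  (f : X ⟶ Spec (CommRingCat.of R)) (ϖ : R) (hϖ : IsLocalRing.maximalIdeal R = Ideal.span {ϖ})

include hϖ in
theorem isFlatOver_of_mono_tMap {M : X.Modules} [Mono (tMap f M ϖ)] : FlatMod.IsFlatOver f M := by
  intro x
  have hle : (⊤ : X.Opens) ≤ f ⁻¹ᵁ ⊤ := fun _ _ => trivial
  rw [QCoh.isFlatOverAt_iff f (isAffineOpen_top _) hle (show x ∈ (⊤ : X.Opens) from trivial)]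
  let e := Scheme.ΓSpecIso (CommRingCat.of R)
  letI : Module Γ(Spec (CommRingCat.of R), ⊤) (M.presheaf.stalk x) :=
    Module.compHom _ ((f.appLE ⊤ ⊤ hle) ≫ X.presheaf.germ ⊤ x trivial).hom
  haveI : IsDomain Γ(Spec (CommRingCat.of R), ⊤) := e.commRingCatIsoToRingEquiv.toMulEquiv.isDomain _
  haveI : IsBezout Γ(Spec (CommRingCat.of R), ⊤) :=
    Function.Surjective.isBezout e.inv.hom (e.symm.commRingCatIsoToRingEquiv.surjective)
  rw [Module.Flat.flat_iff_torsion_eq_bot_of_isBezout, eq_bot_iff]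
  intro m hm
  obtain ⟨⟨a, ha⟩, h0⟩ := (Submodule.mem_torsion_iff m).1 hm
  have ha' : a • m = 0 := h0
  obtain ⟨b, rfl⟩ := e.symm.commRingCatIsoToRingEquiv.surjective a
  have hb : b ≠ 0 := fun h => nonZeroDivisors.ne_zero ha (by rw [h, map_zero])
  obtain ⟨n, hn⟩ := IsDiscreteValuationRing.associated_pow_irreducible hb
    ((IsDiscreteValuationRing.irreducible_iff_uniformizer ϖ).2 hϖ)
  obtain ⟨u, hu⟩ := hn.symm
  have hinj : ∀ v : M.presheaf.stalk x, (e.inv ϖ : Γ(Spec (CommRingCat.of R), ⊤)) • v = 0 → v = 0 := by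
    intro v hv
    refine (injective_iff_map_eq_zero _).1 (sl_injective (tMap f M ϖ) x) v (Eq.trans ?_ hv)
    obtain ⟨U, hU, s, rfl⟩ := M.presheaf.exists_germ_eq (x := x) v
    rw [sl_germ, tMap_app, QCoh.germ_smul', tSec, X.presheaf.germ_res_apply]
    show _ = X.presheaf.germ ⊤ x trivial (f.appLE ⊤ ⊤ hle (e.inv ϖ)) • M.presheaf.germ U x hU s
    congr 2
    show f.appTop (e.inv ϖ) = f.appLE ⊤ ⊤ hle (e.inv ϖ)
    rw [Scheme.Hom.appLE]
    simp
  have hpow : ∀ (n : ℕ) (v : M.presheaf.stalk x), (e.inv ϖ : Γ(Spec (CommRingCat.of R), ⊤)) ^ n • v = 0 → v = 0 := by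
    intro n
    induction n with
    | zero => intro v hv; rwa [pow_zero, one_smul] at hv
    | succ n ih => intro v hv; rw [pow_succ, mul_smul] at hv; exact hinj v (ih _ hv)
  refine (Submodule.mem_bot _).2 (hpow n m ?_)
  change (e.inv b) • m = 0 at ha'
  rw [← hu, map_mul, map_pow, mul_comm, mul_smul] at ha'
  exact (u.isUnit.map e.inv.hom).smul_eq_zero.1 ha'

include hϖ in
theorem mono_tMap {M : X.Modules} (hM : Coh.IsQCoh M) (hfl : FlatMod.IsFlatOver f M) : Mono (tMap f M ϖ) :=
  QCoh.mono_of_app_injective _ (tMap_injective f ϖ hϖ hM hfl)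

include hϖ in
theorem isFlatOver_sub {M N : X.Modules} (ι : N ⟶ M) [Mono ι] (hM : Coh.IsQCoh M)
    (hfl : FlatMod.IsFlatOver f M) : FlatMod.IsFlatOver f N := by
  haveI := mono_tMap f ϖ hϖ hM hfl
  haveI : Mono (tMap f N ϖ ≫ ι) := by rw [← tMap_comm]; infer_instance
  haveI := mono_of_mono (tMap f N ϖ) ι
  exact isFlatOver_of_mono_tMap f ϖ hϖ

end Groth.Agent.TFQuot7

end
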