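import Groth.Agent.TFQuot7.Deg

/-! Torsion-free quotients of an elementary modification on a curve. -/

set_option autoImplicit false
set_option maxHeartbeats 400000
set_option backward.isDefEq.respectTransparency false
set_option backward.isDefEq.respectTransparency.types false
set_option linter.unusedSectionVars false
set_option linter.style.haveILetI false

universe u

open CategoryTheory CategoryTheory.Limits AlgebraicGeometry TopologicalSpace Opposite

noncomputable section

namespace Groth.Agent.TFQuot7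

open Groth.Agent CycK

variable {X : Scheme.{u}}

/-- `N` is a modification of `M` along the quotient `πY : M ⟶ GY`: `0 → GY → N → M → GY → 0` is exact. -/
structure IsModif {M N GY : X.Modules} (πY : M ⟶ GY) (δ : GY ⟶ N) (γ : N ⟶ M) : Prop where
  w : δ ≫ γ = 0
  w' : γ ≫ πY = 0
  mono : Mono δ
  exact₁ : (ShortComplex.mk δ γ w).Exact
  exact₂ : (ShortComplex.mk γ πY w').Exact
  coh : Coh.IsCoh N

namespace IsModif

variable [AlgebraicGeometry.IsNoetherian X] [AlgebraicGeometry.IsReduced X] {M N GY : X.Modules} {Y : Set X}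
  {πY : M ⟶ GY} {δ : GY ⟶ N} {γ : N ⟶ M} (h : IsModif πY δ γ) (hM : TFOne.IsTF1 X M)
  (hGY : TFOne.IsQuotOn X M Y GY πY)

/-- The map onto the kernel. -/
def c : N ⟶ kernel πY := kernel.lift πY γ h.w'

theorem c_ι : h.c ≫ kernel.ι πY = γ := kernel.lift_ι _ _ _

theorem epi_c : Epi h.c :=
  (ShortComplex.exact_iff_epi_kernel_lift (ShortComplex.mk γ πY h.w')).1 h.exact₂

theorem δ_c : δ ≫ h.c = 0 := by
  rw [← cancel_mono (kernel.ι πY), Category.assoc, h.c_ι, h.w, zero_comp]

theorem shortExact : (ShortComplex.mk δ h.c h.δ_c).ShortExact where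
  exact := by
    let g : ShortComplex.mk δ h.c h.δ_c ⟶ ShortComplex.mk δ γ h.w :=
      { τ₁ := 𝟙 _, τ₂ := 𝟙 _, τ₃ := kernel.ι πY
        comm₁₂ := by simp
        comm₂₃ := by simp [h.c_ι] }
    exact (ShortComplex.exact_iff_of_epi_of_isIso_of_mono g).2 h.exact₁
  mono_f := h.mono
  epi_g := h.epi_c

include h hM hGY

theorem isTF1 : TFOne.IsTF1 X N := by
  haveI := h.mono
  have hd : Det N := fun U s hs => by
    have hγ : γ.app U s = 0 := (det_of_tf hM.1.1 hM.2.1) U _ fun y hy hf => by
      rw [← sl_germ, hs y hy hf, map_zero]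
    have hc : h.c.app U s = 0 := QCoh.app_injective (kernel.ι πY) U
      ((congr(($(h.c_ι)).app U s)).trans (hγ.trans (map_zero _).symm))
    obtain ⟨t, ht⟩ := QCoh.exists_app_f_eq h.shortExact U s hc
    have ht0 : t = 0 := quot_det hGY U t fun y hy hf => sl_injective δ y (by
      rw [sl_germ]
      exact (congrArg _ ht).trans ((hs y hy hf).trans (map_zero _).symm))
    exact ht.symm.trans (by rw [ht0, map_zero])
  refine ⟨h.coh, isTorsionFree_of_det h.coh.1 hd, fun y hy => ?_⟩
  obtain ⟨e⟩ := hM.2.2 y hy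
  have hf := mem_genericPoints_iff.1 hy
  by_cases hyY : y ∈ Y
  · have hb : Function.Bijective (sl δ y) := by
      refine ⟨sl_injective δ y, fun n => ?_⟩
      refine (sl_exact h.exact₁ y n).1 ?_
      refine quot_injective hM.2.2 hGY hf hyY ?_
      rw [map_zero, sl_sl_comp h.w', sl_zero]; rfl
    exact ⟨(LinearEquiv.ofBijective _ hb).symm ≪≫ₗ
      (LinearEquiv.ofBijective _ (quot_bijective hM.2.2 hGY hf hyY)).symm ≪≫ₗ e⟩
  · have hb : Function.Bijective (sl γ y) := by
      haveI := quot_subsingleton hGY hyY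
      refine ⟨(injective_iff_map_eq_zero _).2 fun n hn => ?_, fun m => (sl_exact h.exact₂ y m).1 (Subsingleton.elim _ _)⟩
      obtain ⟨t, rfl⟩ := (sl_exact h.exact₁ y n).1 hn
      show sl δ y t = 0
      rw [Subsingleton.elim t 0, map_zero]
    exact ⟨LinearEquiv.ofBijective _ hb ≪≫ₗ e⟩

variable (k : Type u) [Field k] [X.Over (Spec (CommRingCat.of k))] [IsProper (X ↘ Spec (CommRingCat.of k))]

theorem euler_eq (hGYc : Coh.IsCoh GY) (hMc : Coh.IsCoh M) [Epi πY] : Curv2.euler k X N = Curv2.euler k X M := by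
  have hK : Coh.IsCoh (kernel πY) := QCoh.isCoh_kernel hMc hGYc πY
  let S : ShortComplex X.Modules := ShortComplex.mk δ h.c h.δ_c
  have hS : S.ShortExact := h.shortExact
  have h1 : Curv2.euler k X N = Curv2.euler k X GY + Curv2.euler k X (kernel πY) :=
    CurveCohLib.euler_additive (k := k) (S := S) hS hGYc h.coh hK
  have h2 := (euler_isAdditive k).kernel_eq hMc hGYc πY
  omega

variable (hpure : ∀ C ∈ irreducibleComponents (X : Type u), topologicalKrullDim C = 1)

include hpure in
/-- The quotient of the modification on `Z`, compared with the quotients of `M` on `Y ∩ Z`, `Y` and `Y ∪ Z`. -/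
theorem exists_defect {Z W U : Set X} (hWY : W ⊆ Y) (hWZ : W ⊆ Z)
    (hW : ∀ y ∈ genericPoints X, y ∈ Y → y ∈ Z → y ∈ W)
    (hYU : Y ⊆ U) (hZU : Z ⊆ U) (hU : ∀ y ∈ genericPoints X, y ∈ U → y ∈ Y ∨ y ∈ Z)
    {GZ1 GW GU : X.Modules} {πZ1 : N ⟶ GZ1} {πW : M ⟶ GW} {πU : M ⟶ GU}
    (hGZ1 : TFOne.IsQuotOn X N Z GZ1 πZ1) (hGW : TFOne.IsQuotOn X M W GW πW)
    (hGU : TFOne.IsQuotOn X M U GU πU) :
    Curv2.euler k X GW + Curv2.euler k X GU ≤ Curv2.euler k X GZ1 + Curv2.euler k X GY ∧
      ((U = Set.univ ∨ W = ∅) →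
        Curv2.euler k X GW + Curv2.euler k X GU = Curv2.euler k X GZ1 + Curv2.euler k X GY) := by
  have hr := hM.2.2
  have hN := h.isTF1 hM hGY
  haveI := hGY.1
  haveI := hGZ1.1
  haveI := hGU.1
  haveI := hGW.1
  haveI := h.epi_c
  obtain ⟨e, he⟩ := exists_desc hr hGW (quot_det hGZ1) (πY ≫ δ ≫ πZ1) fun y hf hy v => by
    rw [sl_comp_apply, sl_comp_apply]
    by_cases hyY : y ∈ Y
    · exact (quot_subsingleton hGZ1 fun hz => hy (hW y (mem_genericPoints_iff.2 hf) hyY hz)).elim _ _
    · rw [(quot_subsingleton hGY hyY).elim (sl πY y v) 0, map_zero, map_zero]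
  haveI : Mono e := by
    refine Preadditive.mono_of_kernel_zero (((quot_det hGW)).hom_eq_zero _ fun y hf v => ?_)
    have h0 : sl e y (sl (kernel.ι e) y v) = 0 := by rw [← sl_comp_apply, kernel.condition, sl_zero]; rfl
    revert h0
    generalize sl (kernel.ι e) y v = w
    intro h0
    by_cases hy : y ∈ W
    · obtain ⟨m, rfl⟩ := quot_surjective hGW y w
      rw [sl_sl_comp he, sl_comp_apply, sl_comp_apply] at h0
      have h1 := (injective_iff_map_eq_zero _).1 (quot_injective hN.2.2 hGZ1 hf (hWZ hy)) _ h0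
      haveI := h.mono
      have h2 := (injective_iff_map_eq_zero _).1 (sl_injective δ y) _ h1
      rw [(injective_iff_map_eq_zero _).1 (quot_injective hr hGY hf (hWY hy)) _ h2, map_zero]
    · exact (quot_subsingleton hGW hy).elim _ _
  let B := cokernel e
  have hB : Coh.IsCoh B := QCoh.isCoh_cokernel hGW.2.1.1 hGZ1.2.1 e
  have hdb : δ ≫ (πZ1 ≫ cokernel.π e) = 0 := by
    rw [← cancel_epi πY, comp_zero]
    calc πY ≫ δ ≫ πZ1 ≫ cokernel.π e = (πY ≫ δ ≫ πZ1) ≫ cokernel.π e := by simp only [Category.assoc]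
      _ = 0 := by rw [← he, Category.assoc, cokernel.condition, comp_zero]
  obtain ⟨β, hβ⟩ : ∃ β : kernel πY ⟶ B, h.c ≫ β = πZ1 ≫ cokernel.π e :=
    ⟨h.shortExact.gIsCokernel.desc (CokernelCofork.ofπ _ hdb),
      h.shortExact.gIsCokernel.fac _ WalkingParallelPair.one⟩
  haveI : Epi β := by
    haveI : Epi (h.c ≫ β) := by rw [hβ]; exact epi_comp _ _
    exact epi_of_epi h.c β
  obtain ⟨aY, haY, haYe⟩ := exists_restrict hr hGU hGY hYU
  haveI := haYe
  have hKU : Coh.IsCoh (kernel aY) := QCoh.isCoh_kernel hGU.2.1 hGY.2.1 aY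
  let α : kernel πY ⟶ kernel aY :=
    kernel.lift aY (kernel.ι πY ≫ πU) (by rw [Category.assoc, haY, kernel.condition])
  have hαι : α ≫ kernel.ι aY = kernel.ι πY ≫ πU := kernel.lift_ι _ _ _
  have hexY : (ShortComplex.mk (kernel.ι πY) πY (kernel.condition πY)).Exact := ShortComplex.exact_kernel πY
  haveI : Epi α := by
    refine Preadditive.epi_of_cokernel_zero ((CurveCohLib.isZero_of_subsingleton_stalks fun y =>
      subsingleton_cokernel α (x := y) fun u => ?_).eq_of_tgt _ _)
    obtain ⟨m, hm⟩ := quot_surjective hGU y (sl (kernel.ι aY) y u)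
    have h0 : sl πY y m = 0 := by
      rw [← sl_sl_comp haY, hm, ← sl_comp_apply, kernel.condition, sl_zero]; rfl
    obtain ⟨w, hw⟩ := (sl_exact hexY y m).1 h0
    refine ⟨w, sl_injective (kernel.ι aY) y ?_⟩
    rw [sl_sl_comp hαι, sl_comp_apply, ← hm]
    exact congrArg _ hw
  have hinjα : ∀ y, IsField (X.presheaf.stalk y) → y ∈ U → Function.Injective (sl α y) := fun y hf hy => by
    refine (injective_iff_map_eq_zero _).2 fun w hw => ?_
    have h1 : sl πU y (sl (kernel.ι πY) y w) = 0 := by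
      rw [← sl_comp_apply, ← hαι, sl_comp_apply, hw, map_zero]
    exact (injective_iff_map_eq_zero _).1 (sl_injective (kernel.ι πY) y) w
      ((injective_iff_map_eq_zero _).1 (quot_injective hr hGU hf hy) _ h1)
  have hKY : ∀ y, IsField (X.presheaf.stalk y) → y ∈ Y → Subsingleton ((kernel πY).presheaf.stalk y) :=
    fun y hf hy => subsingleton_kernel πY (quot_injective hr hGY hf hy)
  have hBzero : ∀ y, y ∉ Z → Subsingleton (B.presheaf.stalk y) := fun y hy => by
    refine subsingleton_of_forall_eq 0 fun v => ?_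
    obtain ⟨w, rfl⟩ := sl_surjective (cokernel.π e) y v
    rw [(quot_subsingleton hGZ1 hy).elim w 0, map_zero]
  have hinjβ : ∀ y, IsField (X.presheaf.stalk y) → y ∈ Z → y ∉ Y → Function.Injective (sl β y) := fun y hf hz hy => by
    refine (injective_iff_map_eq_zero _).2 fun w hw => ?_
    obtain ⟨n, rfl⟩ := sl_surjective h.c y w
    rw [sl_sl_comp hβ, sl_comp_apply] at hw
    obtain ⟨t, ht⟩ := (sl_exact (ShortComplex.exact_of_g_is_cokernel (ShortComplex.mk e (cokernel.π e)
      (cokernel.condition e)) (cokernelIsCokernel e)) y _).1 hw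
    rw [(quot_subsingleton hGW fun hw' => hy (hWY hw')).elim t 0, map_zero] at ht
    rw [(injective_iff_map_eq_zero _).1 (quot_injective hN.2.2 hGZ1 hf hz) n ht.symm, map_zero]
  obtain ⟨θ, hθ⟩ : ∃ θ : B ⟶ kernel aY, β ≫ θ = α := by
    refine ⟨Abelian.epiDesc β α (((quot_det hGU).of_mono (kernel.ι aY)).hom_eq_zero _ fun y hf v => ?_),
      Abelian.comp_epiDesc _ _ _⟩
    rw [sl_comp_apply]
    by_cases hy : y ∈ Y
    · rw [(hKY y hf hy).elim (sl (kernel.ι β) y v) 0, map_zero]
    by_cases hz : y ∈ Z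
    · rw [(injective_iff_map_eq_zero _).1 (hinjβ y hf hz hy) (sl (kernel.ι β) y v) (by
        rw [← sl_comp_apply, kernel.condition, sl_zero]; rfl), map_zero]
    · haveI : Subsingleton ((kernel aY).presheaf.stalk y) := ⟨fun p q => sl_injective (kernel.ι aY) y
        ((quot_subsingleton hGU fun hu => (hU y (mem_genericPoints_iff.2 hf) hu).elim hy hz).elim _ _)⟩
      exact Subsingleton.elim _ _
  haveI : Epi θ := by
    haveI : Epi (β ≫ θ) := by rw [hθ]; infer_instance
    exact epi_of_epi β θ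
  have hθinj : ∀ y, IsField (X.presheaf.stalk y) → Function.Injective (sl θ y) := fun y hf => by
    refine (injective_iff_map_eq_zero _).2 fun v hv => ?_
    obtain ⟨w, rfl⟩ := sl_surjective β y v
    rw [sl_sl_comp hθ] at hv
    by_cases hy : y ∈ Y
    · rw [(hKY y hf hy).elim w 0, map_zero]
    by_cases hz : y ∈ Z
    · rw [(injective_iff_map_eq_zero _).1 (hinjα y hf (hZU hz)) w hv, map_zero]
    · exact (hBzero y hz).elim _ _
  have e1 := (euler_isAdditive k).mono hGW.2.1 hGZ1.2.1 e
  have e2 := (euler_isAdditive k).kernel_eq hB hKU θ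
  have e3 := (euler_isAdditive k).kernel_eq hGU.2.1 hGY.2.1 aY
  have hQ : Coh.IsCoh (kernel θ) := QCoh.isCoh_kernel hB hKU θ
  have hQ0 : ∀ y ∈ CohB1.support (kernel θ), IsClosed ({y} : Set X) := fun y hy =>
    isClosed_of_not_isField hpure fun hf => hy (subsingleton_kernel θ (hθinj y hf))
  have e4 := CurveCohLib.euler_eq_finrank_zero (k := k) hQ hQ0
  refine ⟨by simp only [B] at *; omega, fun hcase => ?_⟩
  suffices hz : Curv2.euler k X (kernel θ) = 0 by simp only [B] at *; omega
  suffices IsZero (kernel θ) by rw [e4, CurveCohLib.finrank_HH_zero_eq_zero_of_isZero this]; rfl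
  rcases hcase with hu | hw
  · haveI : Mono α := by
      refine Preadditive.mono_of_kernel_zero (((det_of_tf hM.1.1 hM.2.1).of_mono (kernel.ι πY)).hom_eq_zero _
        fun y hf v => ?_)
      exact (injective_iff_map_eq_zero _).1 (hinjα y hf (hu.ge trivial)) _ (by
        rw [← sl_comp_apply, kernel.condition, sl_zero]; rfl)
    haveI : Mono (β ≫ θ) := by rw [hθ]; infer_instance
    haveI : Mono β := mono_of_mono β θ
    haveI : IsIso β := isIso_of_mono_of_epi β
    haveI : Mono θ := by
      have : θ = inv β ≫ α := by rw [IsIso.eq_inv_comp, hθ]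
      rw [this]; infer_instance
    exact isZero_kernel_of_mono θ
  · have hW0 : IsZero GW := (quot_det hGW).isZero fun y _ =>
      quot_subsingleton hGW (by rw [hw]; exact Set.notMem_empty y)
    haveI : Mono (cokernel.π e) := by
      refine Preadditive.mono_of_kernel_zero ((CurveCohLib.isZero_of_subsingleton_stalks fun y =>
        subsingleton_kernel (cokernel.π e) (x := y) ?_).eq_of_src _ _)
      refine (injective_iff_map_eq_zero _).2 fun v hv => ?_
      obtain ⟨t, rfl⟩ := (sl_exact (ShortComplex.exact_of_g_is_cokernel (ShortComplex.mk e (cokernel.π e)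
        (cokernel.condition e)) (cokernelIsCokernel e)) y _).1 hv
      show sl e y t = 0
      rw [(subsingleton_stalk_of_isZero hW0 y).elim t 0, map_zero]
    haveI : IsIso (cokernel.π e) := isIso_of_mono_of_epi _
    have hdB : Det B := (quot_det hGZ1).of_mono (inv (cokernel.π e))
    exact (hdB.of_mono (kernel.ι θ)).isZero fun y hf => subsingleton_kernel θ (hθinj y hf)

end IsModif

end Groth.Agent.TFQuot7

end
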