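import Groth.Agent.TFQuot7.Rows

/-! Semistability of quotients restricted to a subcurve. -/

set_option autoImplicit false
set_option maxHeartbeats 400000
set_option backward.isDefEq.respectTransparency false
set_option backward.isDefEq.respectTransparency.types false
set_option linter.unusedSectionVars false
set_option linter.style.haveILetI false

universe u

open CategoryTheory CategoryTheory.Limits AlgebraicGeometry TopologicalSpace Opposite

noncomputable section

namespace Groth.Agent.TFQuot7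

open Groth.Agent CycK

variable {X : Scheme.{u}} {T : Set X} (hT : IsClosed T)

local notation "S" => VecSt.subsch X T hT
local notation "ι" => VecSt.subschι X T hT

theorem push_subsingleton {G : (S).Modules} {z : S} (h : Subsingleton (G.presheaf.stalk z)) :
    Subsingleton (((Coh.push ι).obj G).presheaf.stalk (ι z)) := by
  refine subsingleton_of_forall_eq 0 fun v => ?_
  obtain ⟨U, hU, s, rfl⟩ := ((Coh.push ι).obj G).presheaf.exists_germ_eq (x := ι z) v
  obtain ⟨W, hW, i, j, he⟩ := G.presheaf.germ_eq (U := ι ⁻¹ᵁ U) (V := ι ⁻¹ᵁ U) z hU hU s 0 (h.elim _ _)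
  rw [map_zero] at he
  obtain ⟨W', hW'⟩ := KZ.ClosedDev.exists_preimage_eq ι W
  subst hW'
  have hzW : ι z ∈ U ⊓ W' := ⟨hU, hW⟩
  rw [← ((Coh.push ι).obj G).presheaf.germ_res_apply (homOfLE (inf_le_left : U ⊓ W' ≤ U)) (ι z) hzW s]
  refine (congrArg _ ?_).trans (map_zero _)
  have hle : ι ⁻¹ᵁ (U ⊓ W') ≤ ι ⁻¹ᵁ W' := fun w hw => hw.2
  show G.presheaf.map (homOfLE (fun w hw => hw.1 : ι ⁻¹ᵁ (U ⊓ W') ≤ ι ⁻¹ᵁ U)).op s = 0
  have h2 := congrArg (G.presheaf.map (homOfLE hle).op) he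
  rw [map_zero, ← CategoryTheory.ConcreteCategory.comp_apply, ← Functor.map_comp] at h2
  exact h2

theorem push_nontrivial {G : (S).Modules} {z : S} (h : ¬ Subsingleton (G.presheaf.stalk z)) :
    ¬ Subsingleton (((Coh.push ι).obj G).presheaf.stalk (ι z)) := by
  intro hs
  refine h (subsingleton_of_forall_eq 0 fun v => ?_)
  obtain ⟨V, hzV, s, rfl⟩ := G.presheaf.exists_germ_eq (x := z) v
  obtain ⟨U, hU⟩ := KZ.ClosedDev.exists_preimage_eq ι V
  subst hU
  obtain ⟨W, hxW, i, j, he⟩ := ((Coh.push ι).obj G).presheaf.germ_eq (U := U) (V := U)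
    (ι z) hzV hzV s 0 (hs.elim _ _)
  rw [map_zero] at he
  have hle : ι ⁻¹ᵁ W ≤ ι ⁻¹ᵁ U := fun w hw => i.le hw
  refine (G.presheaf.germ_res_apply (homOfLE hle) z hxW _).symm.trans ?_
  refine (congrArg (G.presheaf.germ (ι ⁻¹ᵁ W) z hxW) ?_).trans (map_zero _)
  exact he

variable [AlgebraicGeometry.IsNoetherian X] [AlgebraicGeometry.IsReduced X]

theorem reduced_sub : AlgebraicGeometry.IsReduced S :=
  H23.RedSub.isReduced_vanishingIdeal (⟨T, hT⟩ : Closeds X)

theorem noetherian_sub : AlgebraicGeometry.IsNoetherian S :=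
  { __ := LocallyOfFiniteType.isLocallyNoetherian ι
    __ := QuasiCompact.compactSpace_of_compactSpace ι }

theorem image_isUC (hTs : VecSt.IsSubcurve X T) {A : Set S} (hA : IsUC A) : IsUC (ι '' A) := by
  haveI := reduced_sub hT
  obtain ⟨C, hC, rfl⟩ := hA
  refine ⟨(ι '' ·) '' C, ?_, by rw [Set.image_sUnion]⟩
  rintro _ ⟨D, hD, rfl⟩
  obtain ⟨g, hg, hcl, -⟩ := exists_generic_of_component (hC hD)
  have h1 : ι '' D = closure {ι g} := by
    rw [← hcl, ← (ι).isClosedEmbedding.closure_image_eq, Set.image_singleton]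
  show ι '' D ∈ irreducibleComponents (X : Type u)
  rw [h1]
  exact mem_genericPoints_iff.2 (field_of_field hT hTs (mem_genericPoints_iff.1 hg))

theorem isQuotOn_push (hTs : VecSt.IsSubcurve X T) {M GY : X.Modules} {πY : M ⟶ GY}
    (hGY : TFOne.IsQuotOn X M T GY πY) {P : (S).Modules} (e : GY ≅ (Coh.push ι).obj P) (hP : Coh.IsQCoh P)
    {A : Set S} (hA : IsUC A) {G : (S).Modules} {π : P ⟶ G} (hG : TFOne.IsQuotOn S P A G π) :
    TFOne.IsQuotOn X M (ι '' A) ((Coh.push ι).obj G) (πY ≫ e.hom ≫ (Coh.push ι).map π) := by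
  haveI := reduced_sub hT
  haveI := noetherian_sub hT
  haveI := hGY.1
  haveI := hG.1
  haveI : PreservesFiniteColimits (Coh.push ι) :=
    ⟨fun J _ _ => KFlatLib.preservesColimitsOfShape_push ι J⟩
  have hc : Coh.IsCoh ((Coh.push ι).obj G) := QCoh.isCoh_push ι hG.2.1
  have hd := det_push hT hTs (det_of_tf hG.2.1.1 hG.2.2.1)
  have hcl : IsClosed (ι '' A) := (ι).isClosedEmbedding.isClosedMap _ hA.isClosed
  refine ⟨inferInstance, hc, isTorsionFree_of_det hc.1 hd,
    Set.Subset.antisymm (hd.support_subset hcl fun y hf hy => ?_) ?_⟩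
  · by_cases hyT : y ∈ T
    · obtain ⟨z, rfl⟩ := (range_subschι hT).ge hyT
      exact push_subsingleton hT (quot_subsingleton hG fun hz => hy ⟨z, hz, rfl⟩)
    · exact subsingleton_push hT hG.2.1.1 hyT
  · rintro _ ⟨z, hz, rfl⟩
    rw [← hG.2.2.2] at hz
    exact push_nontrivial hT hz

theorem killed_of_quot {M GY : X.Modules} {πY : M ⟶ GY} (hGY : TFOne.IsQuotOn X M T GY πY) :
    KZ.ClosedDev.Killed ι GY := fun U a ha s => by
  refine quot_det hGY U.1 _ fun y hy hf => ?_
  rw [QCoh.germ_smul']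
  by_cases hyT : y ∈ T
  · obtain ⟨z, rfl⟩ := (range_subschι hT).ge hyT
    suffices h : X.presheaf.germ U.1 (ι z) hy a = 0 by rw [h, zero_smul]
    rw [Scheme.Hom.ker_apply, RingHom.mem_ker] at ha
    by_contra hne
    obtain ⟨b, hb⟩ := hf.mul_inv_cancel hne
    have h1 := congrArg ((ι).stalkMap z).hom hb
    rw [map_mul, map_one] at h1
    have h2 : ((ι).stalkMap z).hom (X.presheaf.germ U.1 (ι z) hy a) = 0 := by
      refine (Scheme.Hom.germ_stalkMap_apply ι U.1 z hy a).trans ?_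
      exact (congrArg _ ha).trans (map_zero _)
    rw [h2, zero_mul] at h1
    exact zero_ne_one h1
  · exact (quot_subsingleton hGY hyT).elim _ _

theorem exists_iso_push {M GY : X.Modules} {πY : M ⟶ GY} (hGY : TFOne.IsQuotOn X M T GY πY) :
    Nonempty (GY ≅ (Coh.push ι).obj ((Scheme.Modules.pullback ι).obj GY)) :=
  haveI := (QCoh.isIso_unit_closed_iff ι hGY.2.1.1).2 (killed_of_quot hT hGY)
  ⟨asIso ((Scheme.Modules.pullbackPushforwardAdjunction ι).unit.app GY)⟩

theorem isTF1_restrict {M GY : X.Modules} {πY : M ⟶ GY} (hM : TFOne.IsRkOne X M) (hTs : VecSt.IsSubcurve X T)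
    (hGY : TFOne.IsQuotOn X M T GY πY) : TFOne.IsTF1 S ((Scheme.Modules.pullback ι).obj GY) := by
  haveI := reduced_sub hT
  haveI := noetherian_sub hT
  obtain ⟨e⟩ := exists_iso_push hT hGY
  have hc := KZ.ClosedDev.isCoh_pull ι hGY.2.1
  have hd : Det ((Scheme.Modules.pullback ι).obj GY) := by
    intro V s hs
    obtain ⟨U, rfl⟩ := KZ.ClosedDev.exists_preimage_eq ι V
    have hdY : Det ((Coh.push ι).obj ((Scheme.Modules.pullback ι).obj GY)) := (quot_det hGY).of_mono e.inv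
    refine hdY U s fun y hy hf => ?_
    by_cases hyT : y ∈ T
    · obtain ⟨z, rfl⟩ := (range_subschι hT).ge hyT
      have h0 := hs z hy (mem_genericPoints_iff.1 (mem_genericPoints_of_image hT hf))
      obtain ⟨W, hW, i, j, he⟩ := ((Scheme.Modules.pullback ι).obj GY).presheaf.germ_eq
        (U := ι ⁻¹ᵁ U) (V := ι ⁻¹ᵁ U) z hy hy s 0 (h0.trans (map_zero _).symm)
      rw [map_zero] at he
      obtain ⟨W', hW'⟩ := KZ.ClosedDev.exists_preimage_eq ι W
      subst hW'
      have hzW : ι z ∈ U ⊓ W' := ⟨hy, hW⟩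
      rw [← ((Coh.push ι).obj ((Scheme.Modules.pullback ι).obj GY)).presheaf.germ_res_apply
        (homOfLE (inf_le_left : U ⊓ W' ≤ U)) (ι z) hzW]
      refine (congrArg _ ?_).trans (map_zero _)
      have hle : ι ⁻¹ᵁ (U ⊓ W') ≤ ι ⁻¹ᵁ W' := fun w hw => hw.2
      show ((Scheme.Modules.pullback ι).obj GY).presheaf.map
        (homOfLE (fun w hw => hw.1 : ι ⁻¹ᵁ (U ⊓ W') ≤ ι ⁻¹ᵁ U)).op s = 0
      have h2 := congrArg (((Scheme.Modules.pullback ι).obj GY).presheaf.map (homOfLE hle).op) he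
      rw [map_zero, ← CategoryTheory.ConcreteCategory.comp_apply, ← Functor.map_comp] at h2
      exact h2
    · exact (subsingleton_push hT hc.1 hyT).elim _ _
  refine ⟨hc, isTorsionFree_of_det hc.1 hd, fun z hz => ?_⟩
  have hf := field_of_field hT hTs (mem_genericPoints_iff.1 hz)
  obtain ⟨a⟩ := hM (ι z) (mem_genericPoints_iff.2 hf)
  let b : GY.presheaf.stalk (ι z) ≃ₗ[X.presheaf.stalk (ι z)] X.presheaf.stalk (ι z) :=
    (LinearEquiv.ofBijective _ (quot_bijective hM hGY hf ((range_subschι hT).le ⟨z, rfl⟩))).symm ≪≫ₗ a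
  let c := (KFlatLib.stalkPullbackIso ι z).app GY ≪≫
    (ModuleCat.extendScalars ((ι).stalkMap z).hom).mapIso
      (b.toModuleIso : (DerSch.stalkFunctor X (ι z)).obj GY ≅ ModuleCat.of (X.presheaf.stalk (ι z)) (X.presheaf.stalk (ι z)))
  letI := ((ι).stalkMap z).hom.toAlgebra
  exact ⟨c.toLinearEquiv ≪≫ₗ
    (TensorProduct.AlgebraTensorModule.rid (X.presheaf.stalk (ι z)) ((S).presheaf.stalk z) ((S).presheaf.stalk z))⟩

variable (k : Type u) [Field k] [X.Over (Spec (CommRingCat.of k))] [IsProper (X ↘ Spec (CommRingCat.of k))]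

/-- The numbers `β` of a quotient on a subcurve are those computed upstairs. -/
theorem beta_restrict (hTs : VecSt.IsSubcurve X T) {E : X.Modules} {r : ℕ} (hE : FlatMod.IsFinLocFreeOfRank r E)
    {A : Set S} (hA : IsClosed A) (hAu : IsUC A) {G : (S).Modules} (hG : Coh.IsQCoh G)
    (hcl : IsClosed (ι '' A)) :
    letI : (S).Over (Spec (CommRingCat.of k)) := ⟨ι ≫ (X ↘ Spec (CommRingCat.of k))⟩
    beta k ((Scheme.Modules.pullback ι).obj E) r A hA G = beta k E r (ι '' A) hcl ((Coh.push ι).obj G) := by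
  letI : (S).Over (Spec (CommRingCat.of k)) := ⟨ι ≫ (X ↘ Spec (CommRingCat.of k))⟩
  haveI : IsProper ((S) ↘ Spec (CommRingCat.of k)) :=
    inferInstanceAs (IsProper (ι ≫ (X ↘ Spec (CommRingCat.of k))))
  haveI := reduced_sub hT
  haveI := noetherian_sub hT
  have hO := isTF1_structure (X := (S))
  obtain ⟨Q, π, hQ⟩ := exists_quotOn hO hAu
  have hQX := isQuotOn_push hT hTs (isQuotOn_structure hT hTs) (Iso.refl _) hO.1.1 hAu hQ
  have hES := KRR7.isFinLocFreeOfRank_pullback ι hE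
  unfold beta
  rw [IntNum.euler_push k ι rfl hG, degOn_eq_dev k hES hA hAu hQ, degOn_eq_dev k hE hcl (image_isUC hT hTs hAu) hQX]
  congr 1
  unfold dev
  rw [IntNum.euler_push k ι rfl hQ.2.1.1]
  congr 1
  let a : (Coh.push ι).obj ((DCoh.tensorBi.obj ((Scheme.Modules.pullback ι).obj E)).obj Q) ≅
      (DCoh.tensorBi.obj E).obj ((Coh.push ι).obj Q) :=
    (Coh.push ι).mapIso (((KFlatLib.tensorBiFlipIso (S)).app ((Scheme.Modules.pullback ι).obj E)).app Q).symm ≪≫
      (IntNum.push_tensor ι Q E).some ≪≫ ((KFlatLib.tensorBiFlipIso X).app E).app ((Coh.push ι).obj Q)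
  rw [← CurveCohLib.euler_congr (k := k) a, IntNum.euler_push k ι rfl
    (CurveTensor.isCoh_tensor (finLocFree_of_rank hES) hQ.2.1).1]

end Groth.Agent.TFQuot7

end
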